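import Cfsg.Agent.Lib.Fixity.Derangements
import Cfsg.Agent.Lib.PermGroups.Basic

/-!
Derangement classes of affine primitive groups, and of sharply 2-transitive groups.
-/

set_option autoImplicit false
set_option linter.style.haveILetI false

namespace CfsgLib.Fixity

open MulAction Subgroup

variable {G Ω : Type*} [Group G] [MulAction G Ω]

/-- The predicate cutting out the conjugacy classes of derangements. -/
abbrev IsDerClass (Ω : Type*) [MulAction G Ω] (c : ConjClasses G) : Prop :=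
  ∃ g : G, ConjClasses.mk g = c ∧ ∀ ω : Ω, g • ω ≠ ω

theorem three_le_card_classes [Finite G] {a b c : G} (ha : ∀ ω : Ω, a • ω ≠ ω)
    (hb : ∀ ω : Ω, b • ω ≠ ω) (hc : ∀ ω : Ω, c • ω ≠ ω) (hab : ¬ IsConj a b) (hac : ¬ IsConj a c)
    (hbc : ¬ IsConj b c) : 3 ≤ Nat.card {x : ConjClasses G // IsDerClass Ω x} := by
  let f : Fin 3 → {x : ConjClasses G // IsDerClass Ω x} :=
    ![⟨_, a, rfl, ha⟩, ⟨_, b, rfl, hb⟩, ⟨_, c, rfl, hc⟩]
  have hf : Function.Injective f := by
    intro i j h
    have h' := congrArg Subtype.val h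
    fin_cases i <;> fin_cases j <;> first
      | rfl
      | exact absurd (ConjClasses.mk_eq_mk_iff_isConj.1 h') hab
      | exact absurd (ConjClasses.mk_eq_mk_iff_isConj.1 h') hac
      | exact absurd (ConjClasses.mk_eq_mk_iff_isConj.1 h') hbc
      | exact absurd (ConjClasses.mk_eq_mk_iff_isConj.1 h').symm hab
      | exact absurd (ConjClasses.mk_eq_mk_iff_isConj.1 h').symm hac
      | exact absurd (ConjClasses.mk_eq_mk_iff_isConj.1 h').symm hbc
  simpa using Nat.card_le_card_of_injective f hf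

theorem normal_transitive [Finite G] [FaithfulSMul G Ω] (hprim : IsPreprimitive G Ω)
    {N : Subgroup G} [N.Normal] (hN : N ≠ ⊥) : IsPretransitive N Ω := by
  haveI := hprim
  refine IsQuasiPreprimitive.isPretransitive_of_normal fun h => hN ?_
  refine (eq_bot_iff_forall _).2 fun m hm => eq_of_smul_eq_smul (α := Ω) fun w => ?_
  have hw : w ∈ fixedPoints N Ω := by rw [h]; trivial
  rw [one_smul]; exact hw ⟨m, hm⟩

theorem abelian_normal_regular [Finite G] [FaithfulSMul G Ω] (hprim : IsPreprimitive G Ω)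
    {N : Subgroup G} [N.Normal] (hN : N ≠ ⊥) (hc : IsMulCommutative N) :
    IsPretransitive N Ω ∧ ∀ ω : Ω, stabilizer N ω = ⊥ := by
  haveI := normal_transitive hprim hN
  exact ⟨inferInstance, fun ω => CfsgLib.PermGroups.semiregular_of_abelian_transitive N hc ω⟩

theorem derangement_of_mem_regular {N : Subgroup G} (hreg : ∀ ω : Ω, stabilizer N ω = ⊥) {x : G}
    (hx : x ∈ N) (hx1 : x ≠ 1) (ω : Ω) : x • ω ≠ ω := fun h =>
  hx1 ((CfsgLib.PermGroups.stabilizer_subgroup_eq_bot_iff N ω).1 (hreg ω) x hx h)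

theorem card_regular_eq [Finite Ω] {N : Subgroup G} (ht : IsPretransitive N Ω)
    (hreg : ∀ ω : Ω, stabilizer N ω = ⊥) (a : Ω) : Nat.card N = Nat.card Ω := by
  haveI := ht
  have h := index_stabilizer_of_transitive N a
  rwa [hreg a, Subgroup.index_bot] at h

/-- If every derangement lies in the regular abelian normal subgroup, all fixed point numbers of
non-identity elements are at most one. -/
theorem fix_le_one_of_derangements_subset [Finite G] [Finite Ω] (htr : IsPretransitive G Ω)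
    {N : Subgroup G} (hreg : ∀ ω : Ω, stabilizer N ω = ⊥)
    (hD : ∀ g : G, (∀ ω : Ω, g • ω ≠ ω) → g ∈ N) {g : G} (hg : g ≠ 1) :
    Nat.card (fixedBy Ω g) ≤ 1 := by
  by_cases hgN : g ∈ N
  · rw [(card_fix_eq_zero_iff g).2 (derangement_of_mem_regular hreg hgN hg)]; omega
  · exact ((transitive_and_fix_eq_one htr N hD).2 g hgN).le

theorem eq_of_fix_le_one [Finite Ω] {g : G} (h : Nat.card (fixedBy Ω g) ≤ 1) {a b : Ω}
    (ha : g • a = a) (hb : g • b = b) : a = b :=
  congrArg Subtype.val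
    (@Subsingleton.elim _ (Finite.card_le_one_iff_subsingleton.1 h) (⟨a, ha⟩ : fixedBy Ω g) ⟨b, hb⟩)

/-- A regular abelian normal subgroup whose nontrivial elements are all conjugate makes the group
2-transitive. -/
theorem two_transitive_of_conj [FaithfulSMul G Ω] {N : Subgroup G} [hn : N.Normal]
    (ht : IsPretransitive N Ω) (hc : IsMulCommutative N)
    (hcl : ∀ x ∈ N, ∀ y ∈ N, x ≠ 1 → y ≠ 1 → IsConj x y) : IsMultiplyPretransitive G Ω 2 := by
  haveI := ht
  have hcomm : ∀ x ∈ N, ∀ y ∈ N, x * y = y * x := fun x hx y hy =>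
    congrArg Subtype.val (hc.is_comm.comm (⟨x, hx⟩ : N) ⟨y, hy⟩)
  rw [is_two_pretransitive_iff]
  intro a b c d hab hcd
  obtain ⟨x, rfl⟩ := exists_smul_eq N a b
  obtain ⟨y, rfl⟩ := exists_smul_eq N c d
  have hx1 : (x : G) ≠ 1 := fun h => hab (by rw [Subgroup.smul_def, h, one_smul])
  have hy1 : (y : G) ≠ 1 := fun h => hcd (by rw [Subgroup.smul_def, h, one_smul])
  obtain ⟨g, hg⟩ := isConj_iff.1 (hcl x x.2 y y.2 hx1 hy1)
  obtain ⟨m, hm⟩ := exists_smul_eq N (g • a) c
  refine ⟨m * g, by rw [mul_smul]; exact hm, ?_⟩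
  simp only [Subgroup.smul_def] at hm ⊢
  have h1 : (m : G) * g * x = y * (m * g) := by
    calc (m : G) * g * x = m * (g * x * g⁻¹) * g := by simp [mul_assoc]
      _ = y * m * g := by rw [hg, hcomm _ m.2 _ y.2]
      _ = _ := by rw [mul_assoc]
  rw [← mul_smul, h1, mul_smul, mul_smul, hm]

/-- A sharply 2-transitive group has exactly one class of derangements. -/
theorem card_classes_of_sharp [Finite G] [Finite Ω] (hΩ : 2 ≤ Nat.card Ω)
    (htr : IsMultiplyPretransitive G Ω 2)
    (hs : ∀ g : G, g ≠ 1 → ∀ a b : Ω, a ≠ b → g • a = a → g • b ≠ b) :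
    Nat.card {x : ConjClasses G // IsDerClass Ω x} = 1 := by
  classical
  haveI := Fintype.ofFinite G
  haveI := htr
  haveI hp : IsPretransitive G Ω := isPretransitive_of_is_two_pretransitive
  haveI hne : Nontrivial Ω := Finite.one_lt_card_iff_nontrivial.1 (by omega)
  obtain ⟨g, hg⟩ := exists_derangement hp hΩ
  -- the number of derangements is `n - 1`, the order of a point stabiliser
  obtain ⟨a⟩ : Nonempty Ω := inferInstance
  obtain ⟨b, hba⟩ := exists_ne a
  have htwo : ∀ {a b c d : Ω}, a ≠ b → c ≠ d → ∃ g : G, g • a = c ∧ g • b = d :=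
    fun h h' => is_two_pretransitive_iff.1 htr h h'
  let φ : stabilizer G a → ({x : Ω | x ≠ a} : Set Ω) := fun h =>
    ⟨(h : G) • b, fun he => hba (smul_left_cancel (h : G) (he.trans h.2.symm))⟩
  have hφ : Function.Bijective φ := by
    refine ⟨fun h k hk => ?_, fun ⟨x, hx⟩ => ?_⟩
    · by_contra hne'
      refine hs ((k : G)⁻¹ * h) (fun h1 => hne' (Subtype.ext (inv_mul_eq_one.1 h1).symm)) a b hba.symm
        ?_ ?_
      · rw [mul_smul, mem_stabilizer_iff.1 h.2, inv_smul_eq_iff, mem_stabilizer_iff.1 k.2]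
      · rw [mul_smul, inv_smul_eq_iff]; exact congrArg Subtype.val hk
    · obtain ⟨h, ha', hb'⟩ := htwo hba.symm (c := a) (d := x) (Ne.symm hx)
      exact ⟨⟨h, ha'⟩, Subtype.ext hb'⟩
  have hH : Nat.card (stabilizer G a) = Nat.card Ω - 1 := by
    rw [Nat.card_congr (Equiv.ofBijective φ hφ), Nat.card_coe_set_eq,
      show {x : Ω | x ≠ a} = Set.univ \ {a} by ext; simp,
      Set.ncard_sdiff_singleton_of_mem (Set.mem_univ a), Set.ncard_univ]
  have hGcard : Nat.card G = (Nat.card Ω - 1) * Nat.card Ω := by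
    rw [← hH, ← index_stabilizer_of_transitive G a, Subgroup.card_mul_index]
  have hfix : ∀ x : G, x ≠ 1 → Nat.card (fixedBy Ω x) ≤ 1 := by
    intro x hx
    rw [Finite.card_le_one_iff_subsingleton]
    exact ⟨fun u v => Subtype.ext (by_contra fun huv => hs x hx u.1 v.1 huv u.2 v.2)⟩
  set D := Finset.univ.filter (fun x : G => ∀ ω : Ω, x • ω ≠ ω) with hD
  have hsum := sum_fix_eq_card (G := G) (Ω := Ω) hp
  have hpt : ∀ x : G, Nat.card (fixedBy Ω x) + (if (∀ ω : Ω, x • ω ≠ ω) then 1 else 0) =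
      1 + (if x = 1 then Nat.card Ω - 1 else 0) := by
    intro x
    by_cases hx : x = 1
    · subst hx
      rw [if_pos rfl, if_neg (fun h => h a (one_smul G a)), card_fix_one]; omega
    · rw [if_neg hx]
      by_cases hd : ∀ ω : Ω, x • ω ≠ ω
      · rw [if_pos hd, (card_fix_eq_zero_iff x).2 hd]
      · rw [if_neg hd]
        have := one_le_card_fix hd
        have := hfix x hx
        omega
  have hDcard : D.card = Nat.card Ω - 1 := by
    have := Finset.sum_congr rfl (fun x (_ : x ∈ Finset.univ) => hpt x)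
    rw [Finset.sum_add_distrib, Finset.sum_add_distrib, hsum, Finset.sum_boole, Finset.sum_ite_eq',
      Finset.sum_const, Finset.card_univ, ← Nat.card_eq_fintype_card] at this
    simpa [hD] using this
  have hall : ∀ x : G, (∀ ω : Ω, x • ω ≠ ω) → IsConj g x := by
    let C : Finset G := Finset.image (fun h : stabilizer G a => (h : G) * g * (h : G)⁻¹)
      (Finset.univ : Finset (stabilizer G a))
    have hCcard : C.card = Nat.card Ω - 1 := by
      rw [Finset.card_image_of_injective, Finset.card_univ, ← Nat.card_eq_fintype_card, hH]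
      intro h k hk
      simp only at hk
      by_contra hne'
      have hcomm : (k : G)⁻¹ * h * g = g * ((k : G)⁻¹ * h) := by
        calc (k : G)⁻¹ * h * g = (k : G)⁻¹ * ((h : G) * g * (h : G)⁻¹) * h := by simp [mul_assoc]
          _ = (k : G)⁻¹ * ((k : G) * g * (k : G)⁻¹) * h := by rw [hk]
          _ = _ := by simp [mul_assoc]
      have hfa : ((k : G)⁻¹ * h) • a = a := by
        rw [mul_smul, mem_stabilizer_iff.1 h.2, inv_smul_eq_iff, mem_stabilizer_iff.1 k.2]
      refine hs _ (fun h1 => hne' (Subtype.ext (inv_mul_eq_one.1 h1).symm)) a (g • a) (hg a).symm hfa ?_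
      rw [← mul_smul, hcomm, mul_smul, hfa]
    have hsub : C ⊆ D := by
      intro x hx
      obtain ⟨h, -, rfl⟩ := Finset.mem_image.1 hx
      refine Finset.mem_filter.2 ⟨Finset.mem_univ _, fun ω hω => hg ((h : G)⁻¹ • ω) ?_⟩
      rw [mul_smul, mul_smul] at hω
      rwa [eq_inv_smul_iff]
    intro x hx
    have : x ∈ C := by
      rw [Finset.eq_of_subset_of_card_le hsub (le_of_eq (hDcard.trans hCcard.symm))]
      exact Finset.mem_filter.2 ⟨Finset.mem_univ _, hx⟩
    obtain ⟨h, -, rfl⟩ := Finset.mem_image.1 this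
    exact isConj_iff.2 ⟨h, rfl⟩
  rw [Nat.card_eq_one_iff_unique]
  refine ⟨⟨?_⟩, ⟨⟨_, g, rfl, hg⟩⟩⟩
  rintro ⟨_, x, rfl, hx⟩ ⟨_, y, rfl, hy⟩
  exact Subtype.ext (ConjClasses.mk_eq_mk_iff_isConj.2 ((hall x hx).symm.trans (hall y hy)))

end CfsgLib.Fixity
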