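import Mathlib.GroupTheory.GroupAction.Quotient
import Mathlib.GroupTheory.GroupAction.Transitive
import Mathlib.GroupTheory.GroupAction.Primitive
import Mathlib.GroupTheory.Index
import Mathlib.Algebra.BigOperators.Group.Finset.Sigma

/-!
Counting fixed points: consequences of the orbit-counting lemma for subgroups that contain all
derangements.
-/

set_option autoImplicit false
set_option linter.style.haveILetI false

namespace CfsgLib.Fixity

open MulAction

variable {G Ω : Type*} [Group G] [MulAction G Ω]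

theorem sum_fix_eq_orbits_mul (G Ω : Type*) [Group G] [MulAction G Ω] [Fintype G] [Finite Ω] :
    ∑ g : G, Nat.card (fixedBy Ω g) = Nat.card (orbitRel.Quotient G Ω) * Nat.card G := by
  rw [← Nat.card_sigma, Nat.card_congr (sigmaFixedByEquivOrbitsProdGroup G Ω), Nat.card_prod]

theorem card_quotient_eq_one [Nonempty Ω] (h : IsPretransitive G Ω) :
    Nat.card (orbitRel.Quotient G Ω) = 1 := by
  rw [Nat.card_eq_one_iff_unique]
  exact ⟨(pretransitive_iff_subsingleton_quotient G Ω).1 h, Nonempty.map Quotient.mk'' inferInstance⟩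

theorem sum_fix_eq_card [Fintype G] [Finite Ω] [Nonempty Ω] (h : IsPretransitive G Ω) :
    ∑ g : G, Nat.card (fixedBy Ω g) = Nat.card G := by
  rw [sum_fix_eq_orbits_mul, card_quotient_eq_one h, one_mul]

theorem card_fix_eq_zero_iff [Finite Ω] (g : G) :
    Nat.card (fixedBy Ω g) = 0 ↔ ∀ ω : Ω, g • ω ≠ ω := by
  rw [Finite.card_eq_zero_iff, isEmpty_subtype]
  rfl

theorem one_le_card_fix [Finite Ω] {g : G} (h : ¬ ∀ ω : Ω, g • ω ≠ ω) :
    1 ≤ Nat.card (fixedBy Ω g) := by
  rw [← card_fix_eq_zero_iff] at h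
  exact Nat.one_le_iff_ne_zero.2 h

theorem card_fix_one : Nat.card (fixedBy Ω (1 : G)) = Nat.card Ω := by
  rw [show fixedBy Ω (1 : G) = Set.univ from Set.eq_univ_of_forall fun w => one_smul G w, Nat.card_univ]

/-- Jordan: a transitive group on at least two points has a derangement. -/
theorem exists_derangement [Finite G] [Finite Ω] (h : IsPretransitive G Ω)
    (hΩ : 2 ≤ Nat.card Ω) : ∃ g : G, ∀ ω : Ω, g • ω ≠ ω := by
  classical
  haveI := Fintype.ofFinite G
  haveI : Nonempty Ω := (Nat.card_pos_iff.1 (by omega)).1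
  by_contra hc
  push Not at hc
  have hs := sum_fix_eq_card h
  have h1 : ∑ _g : G, 1 < ∑ g : G, Nat.card (fixedBy Ω g) := by
    refine Finset.sum_lt_sum (fun g _ => one_le_card_fix (fun hh => ?_)) ⟨1, Finset.mem_univ _, ?_⟩
    · obtain ⟨w, hw⟩ := hc g; exact hh w hw
    · rw [card_fix_one]; omega
  rw [hs, Finset.sum_const, smul_eq_mul, mul_one, Finset.card_univ, ← Nat.card_eq_fintype_card] at h1
  exact lt_irrefl _ h1

theorem sum_fix_subgroup [Fintype G] [Finite Ω] (D : Subgroup G) [DecidablePred (· ∈ D)] :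
    ∑ g ∈ Finset.univ.filter (· ∈ D), Nat.card (fixedBy Ω g)
      = Nat.card (orbitRel.Quotient D Ω) * Nat.card D := by
  rw [← sum_fix_eq_orbits_mul D Ω,
    Finset.sum_subtype (Finset.univ.filter (· ∈ D)) (p := (· ∈ D)) (by simp)]
  rfl

/-- A subgroup containing every derangement of a transitive group is transitive, and every
element outside it fixes exactly one point. -/
theorem transitive_and_fix_eq_one [Finite G] [Finite Ω] (h : IsPretransitive G Ω) (D : Subgroup G)
    (hD : ∀ g : G, (∀ ω : Ω, g • ω ≠ ω) → g ∈ D) :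
    IsPretransitive D Ω ∧ ∀ g : G, g ∉ D → Nat.card (fixedBy Ω g) = 1 := by
  classical
  rcases isEmpty_or_nonempty Ω with hΩ | hΩ
  · exact ⟨⟨fun x => isEmptyElim x⟩, fun g hg => absurd (hD g fun w => isEmptyElim w) hg⟩
  haveI := Fintype.ofFinite G
  have hs := sum_fix_eq_card h
  rw [← Finset.sum_filter_add_sum_filter_not Finset.univ (· ∈ D), sum_fix_subgroup] at hs
  have hG : Nat.card G = Nat.card D + ∑ _g ∈ Finset.univ.filter (· ∉ D), 1 := by
    rw [Finset.sum_const, smul_eq_mul, mul_one, Nat.card_eq_fintype_card,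
      Nat.card_eq_fintype_card, Fintype.card_subtype, Finset.card_filter_add_card_filter_not,
      Finset.card_univ]
  have hle : ∀ g ∈ Finset.univ.filter (· ∉ D), 1 ≤ Nat.card (fixedBy Ω g) := by
    intro g hg
    exact one_le_card_fix fun hh => (Finset.mem_filter.1 hg).2 (hD g hh)
  have hsum := Finset.sum_le_sum hle
  have hDpos : 0 < Nat.card D := Nat.card_pos
  have hq : 1 ≤ Nat.card (orbitRel.Quotient D Ω) :=
    haveI : Nonempty (orbitRel.Quotient D Ω) := Nonempty.map Quotient.mk'' hΩ
    Nat.card_pos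
  have hq1 : Nat.card (orbitRel.Quotient D Ω) = 1 := by
    by_contra hne
    have : 2 * Nat.card D ≤ Nat.card (orbitRel.Quotient D Ω) * Nat.card D :=
      Nat.mul_le_mul_right _ (by omega)
    omega
  refine ⟨(pretransitive_iff_subsingleton_quotient D Ω).2 (Nat.card_eq_one_iff_unique.1 hq1).1, ?_⟩
  rw [hq1, one_mul] at hs
  intro g hg
  refine ((Finset.sum_eq_sum_iff_of_le hle).1 ?_ g (by simp [hg])).symm
  omega

/-- If a subgroup `K` of `H` contains the stabiliser in `H` of every point of a finite `H`-set,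
then the index of `K` in `H` divides the number of points. -/
theorem index_dvd_card {H Δ : Type*} [Group H] [MulAction H Δ] [Finite Δ] (K : Subgroup H)
    (hK : ∀ x : Δ, stabilizer H x ≤ K) : K.index ∣ Nat.card Δ := by
  classical
  haveI := Fintype.ofFinite (orbitRel.Quotient H Δ)
  rw [Nat.card_congr (selfEquivSigmaOrbits' H Δ), Nat.card_sigma]
  refine Finset.dvd_sum fun q _ => ?_
  induction q using Quotient.inductionOn' with
  | h x =>
    rw [orbitRel.Quotient.orbit_mk, Nat.card_coe_set_eq, ← index_stabilizer]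
    exact Subgroup.index_dvd_of_le (hK x)

theorem card_fix_prod [Finite Ω] (g : G) :
    Nat.card (fixedBy (Ω × Ω) g) = Nat.card (fixedBy Ω g) * Nat.card (fixedBy Ω g) := by
  rw [← Nat.card_prod]
  exact Nat.card_congr
    { toFun := fun x => (⟨x.1.1, congrArg Prod.fst x.2⟩, ⟨x.1.2, congrArg Prod.snd x.2⟩)
      invFun := fun y => ⟨(y.1.1, y.2.1), Prod.ext y.1.2 y.2.2⟩
      left_inv := fun _ => rfl
      right_inv := fun _ => rfl }

/-- The rank of a subgroup containing every derangement of a transitive group. -/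
theorem rank_index [Finite G] [Finite Ω] (h : IsPretransitive G Ω) (D : Subgroup G)
    (hD : ∀ g : G, (∀ ω : Ω, g • ω ≠ ω) → g ∈ D) :
    Nat.card (orbitRel.Quotient D (Ω × Ω)) - 1 =
      (Nat.card (orbitRel.Quotient G (Ω × Ω)) - 1) * D.index := by
  classical
  haveI := Fintype.ofFinite G
  have h2 := (transitive_and_fix_eq_one h D hD).2
  have hs := sum_fix_eq_orbits_mul G (Ω × Ω)
  rw [← Finset.sum_filter_add_sum_filter_not Finset.univ (· ∈ D), sum_fix_subgroup] at hs
  have hG : Nat.card G = Nat.card D + (Finset.univ.filter (· ∉ D)).card := by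
    rw [Nat.card_eq_fintype_card, Nat.card_eq_fintype_card, Fintype.card_subtype,
      Finset.card_filter_add_card_filter_not, Finset.card_univ]
  have h3 : ∑ g ∈ Finset.univ.filter (· ∉ D), Nat.card (fixedBy (Ω × Ω) g) =
      (Finset.univ.filter (· ∉ D)).card := by
    rw [Finset.card_eq_sum_ones]
    refine Finset.sum_congr rfl fun g hg => ?_
    rw [card_fix_prod, h2 g (Finset.mem_filter.1 hg).2]
  rw [h3] at hs
  have hi := D.card_mul_index
  have hDpos : 0 < Nat.card D := Nat.card_pos
  generalize Nat.card (orbitRel.Quotient D (Ω × Ω)) = rD at hs ⊢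
  generalize Nat.card (orbitRel.Quotient G (Ω × Ω)) = rG at hs ⊢
  apply Nat.eq_of_mul_eq_mul_left hDpos
  have : Nat.card D * (rD - 1) = (rG - 1) * Nat.card G := by
    rw [Nat.sub_mul, one_mul, Nat.mul_sub_one, Nat.mul_comm (Nat.card D) rD]
    omega
  rw [this, ← hi]
  ring

theorem closure_derangements_normal :
    (Subgroup.closure {g : G | ∀ ω : Ω, g • ω ≠ ω}).Normal := by
  constructor
  intro n hn x
  induction hn using Subgroup.closure_induction with
  | mem g hg =>
    refine Subgroup.subset_closure fun ω h => hg (x⁻¹ • ω) ?_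
    rw [mul_smul, mul_smul] at h
    rwa [eq_inv_smul_iff]
  | one => simp
  | mul u v _ _ hu hv =>
    rw [show x * (u * v) * x⁻¹ = (x * u * x⁻¹) * (x * v * x⁻¹) by simp [mul_assoc]]
    exact mul_mem hu hv
  | inv u _ hu =>
    rw [show x * u⁻¹ * x⁻¹ = (x * u * x⁻¹)⁻¹ by simp [mul_assoc]]
    exact inv_mem hu

theorem index_stabilizer_inf [Finite G] [Finite Ω] (h : IsPretransitive G Ω) (D : Subgroup G)
    [D.Normal] (hD : ∀ g : G, (∀ ω : Ω, g • ω ≠ ω) → g ∈ D) (a : Ω) :
    (D.subgroupOf (stabilizer G a)).index = D.index := by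
  let f : stabilizer G a →* G ⧸ D := (QuotientGroup.mk' D).comp (stabilizer G a).subtype
  have hf : Function.Surjective f := by
    intro q
    obtain ⟨g, rfl⟩ := QuotientGroup.mk'_surjective D q
    haveI := (transitive_and_fix_eq_one h D hD).1
    obtain ⟨d, hd⟩ := exists_smul_eq D (g • a) a
    refine ⟨⟨d * g, by rw [mem_stabilizer_iff, mul_smul]; exact hd⟩, ?_⟩
    simp [f]
  have hk : D.subgroupOf (stabilizer G a) = f.ker := by
    ext x; simp [f, Subgroup.mem_subgroupOf]
  rw [hk, Subgroup.index_ker, MonoidHom.range_eq_top.2 hf, Nat.card_congr Subgroup.topEquiv.toEquiv,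
    ← Subgroup.index_eq_card]

/-- If the elements outside a normal subgroup `D` fix exactly one point, then the index of `D`
divides the number of points different from `a` in any set containing `a` that is invariant under
the stabiliser of `a`. -/
theorem index_dvd_card_diff [Finite G] [Finite Ω] (h : IsPretransitive G Ω) (D : Subgroup G)
    [D.Normal] (hD : ∀ g : G, (∀ ω : Ω, g • ω ≠ ω) → g ∈ D) (a : Ω) (B : Set Ω)
    (hB : ∀ g : G, g • a = a → ∀ x ∈ B, g • x ∈ B) :
    D.index ∣ (B \ {a}).ncard := by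
  have h2 := (transitive_and_fix_eq_one h D hD).2
  let S : SubMulAction (stabilizer G a) Ω :=
    { carrier := B \ {a}
      smul_mem' := fun g x hx => by
        refine ⟨hB g g.2 x hx.1, fun he => hx.2 ?_⟩
        have : (g : G) • x = (g : G) • a := by rw [mem_stabilizer_iff.1 g.2]; exact he
        exact smul_left_cancel _ this }
  rw [← index_stabilizer_inf h D hD a, ← Nat.card_coe_set_eq]
  refine index_dvd_card (Δ := S) (D.subgroupOf (stabilizer G a)) fun x g hg => ?_
  rw [Subgroup.mem_subgroupOf]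
  by_contra hn
  have hx := congrArg Subtype.val (mem_stabilizer_iff.1 hg)
  have h1 := Nat.card_eq_one_iff_unique.1 (h2 g hn)
  have := @Subsingleton.elim _ h1.1 (⟨(x : Ω), hx⟩ : fixedBy Ω (g : G)) ⟨a, g.2⟩
  exact x.2.2 (congrArg Subtype.val this)

theorem index_dvd_pred [Finite G] [Finite Ω] (h : IsPretransitive G Ω) (D : Subgroup G)
    [D.Normal] (hD : ∀ g : G, (∀ ω : Ω, g • ω ≠ ω) → g ∈ D) :
    D.index ∣ Nat.card Ω - 1 := by
  rcases isEmpty_or_nonempty Ω with hΩ | ⟨⟨a⟩⟩
  · simp
  have := index_dvd_card_diff h D hD a Set.univ fun _ _ x _ => Set.mem_univ _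
  rwa [Set.ncard_diff_singleton_of_mem (Set.mem_univ a), Set.ncard_univ] at this

end CfsgLib.Fixity
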