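import Mathlib
import Cfsg.Agent.Lib.Fixity.Count

/-!
Derangements in primitive groups that are neither affine nor almost simple: there are three
pairwise non-conjugate ones, and their orders are not all powers of one prime. The proof only
needs the simple direct factors of a minimal normal subgroup and Jordan's theorem.
-/

set_option autoImplicit false
set_option linter.style.haveILetI false

namespace CfsgLib.Fixity

open MulAction Subgroup

variable {G Ω : Type*} [Group G] [MulAction G Ω]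

theorem exists_prime_orderOf_ne {K : Type*} [Group K] [Finite K] [Nontrivial K]
    (hc : Subgroup.center K = ⊥) (p : ℕ) :
    ∃ q, q.Prime ∧ q ≠ p ∧ ∃ x : K, orderOf x = q := by
  by_contra hcon
  have h : ∀ q, q.Prime → q ∣ Nat.card K → q = p := by
    intro q hq hd
    by_contra hne
    haveI := Fact.mk hq
    exact hcon ⟨q, hq, hne, exists_prime_orderOf_dvd_card' q hd⟩
  have hK : 1 < Nat.card K := Finite.one_lt_card
  obtain ⟨r, hr, hrd⟩ := Nat.exists_prime_and_dvd hK.ne'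
  obtain rfl := h r hr hrd
  haveI := Fact.mk hr
  have hP : IsPGroup r K :=
    IsPGroup.of_card (n := (Nat.card K).primeFactorsList.length)
      (Nat.eq_prime_pow_of_unique_prime_dvd Nat.card_pos.ne' fun {d} hd hdd => h d hd hdd)
  haveI := hP.center_nontrivial
  exact (Subgroup.nontrivial_iff_ne_bot _).1 this hc

/-- Conjugate of a subgroup. -/
abbrev cj (g : G) (S : Subgroup G) : Subgroup G := S.map (MulAut.conj g).toMonoidHom

theorem mem_cj {g x : G} {S : Subgroup G} : x ∈ cj g S ↔ g⁻¹ * x * g ∈ S := by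
  constructor
  · rintro ⟨y, hy, rfl⟩; simpa [mul_assoc] using hy
  · intro h; exact ⟨_, h, by simp [mul_assoc]⟩

theorem cj_inv_of_eq {g : G} {S T : Subgroup G} (h : cj g S = T) : cj g⁻¹ T = S := by
  subst h; ext z; simp only [mem_cj]; simp [mul_assoc]

theorem conj_mem_cj {g x : G} {S : Subgroup G} (h : x ∈ S) : g * x * g⁻¹ ∈ cj g S :=
  ⟨x, h, rfl⟩

/-- A minimal nontrivial subgroup of `N` normalised by `N`. -/
structure IsFactor (N S : Subgroup G) : Prop where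
  le : S ≤ N
  ne_bot : S ≠ ⊥
  norm : ∀ n ∈ N, ∀ s ∈ S, n * s * n⁻¹ ∈ S
  min : ∀ X : Subgroup G, X ≤ S → (∀ n ∈ N, ∀ x ∈ X, n * x * n⁻¹ ∈ X) → X = ⊥ ∨ X = S

theorem exists_factor [Finite G] (N : Subgroup G) [hN : N.Normal] (h : N ≠ ⊥) :
    ∃ S, IsFactor N S := by
  obtain ⟨S, hS⟩ := exists_minimal_of_wellFoundedLT
    (fun X : Subgroup G => X ≤ N ∧ X ≠ ⊥ ∧ ∀ n ∈ N, ∀ x ∈ X, n * x * n⁻¹ ∈ X)
    ⟨N, le_rfl, h, fun n hn x hx => mul_mem (mul_mem hn hx) (inv_mem hn)⟩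
  refine ⟨S, hS.1.1, hS.1.2.1, hS.1.2.2, fun X hX hn => ?_⟩
  rw [or_iff_not_imp_left]
  exact fun hb => le_antisymm hX (hS.2 ⟨hX.trans hS.1.1, hb, hn⟩ hX)

theorem IsFactor.map {N S : Subgroup G} (hS : IsFactor N S) [hN : N.Normal] (g : G) :
    IsFactor N (cj g S) := by
  have key : ∀ (a : G) (X : Subgroup G), (∀ n ∈ N, ∀ x ∈ X, n * x * n⁻¹ ∈ X) →
      ∀ n ∈ N, ∀ x ∈ cj a X, n * x * n⁻¹ ∈ cj a X := by
    intro a X hX n hn x hx
    rw [mem_cj] at hx ⊢
    have := hX _ (hN.conj_mem n hn a⁻¹) _ hx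
    simpa [mul_assoc] using this
  refine ⟨fun x hx => ?_, ?_, key g S hS.norm, fun X hX hn => ?_⟩
  · have := hN.conj_mem _ (hS.le (mem_cj.1 hx)) g
    simpa [mul_assoc] using this
  · intro h
    refine hS.ne_bot ((eq_bot_iff_forall _).2 fun s hs => ?_)
    have : g * s * g⁻¹ ∈ cj g S := conj_mem_cj hs
    rw [h, Subgroup.mem_bot] at this
    exact conj_eq_one_iff.1 this
  · have h1 : cj g⁻¹ X ≤ S := fun x hx => by
      have := mem_cj.1 (hX (mem_cj.1 hx))
      simpa [mul_assoc] using this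
    rcases hS.min _ h1 (key g⁻¹ X hn) with h | h
    · refine Or.inl ((eq_bot_iff_forall _).2 fun x hx => ?_)
      have : g⁻¹ * x * g ∈ cj g⁻¹ X := by rw [mem_cj]; simpa [mul_assoc] using hx
      rw [h, Subgroup.mem_bot] at this
      simpa [mul_assoc, eq_inv_iff_mul_eq_one] using congrArg (fun y => g * y * g⁻¹) this
    · refine Or.inr (le_antisymm hX fun x hx => ?_)
      have h2 := mem_cj.1 hx
      rw [← h, mem_cj] at h2
      simpa [mul_assoc] using h2

theorem IsFactor.eq_or_disjoint {N S T : Subgroup G} (hS : IsFactor N S) (hT : IsFactor N T) :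
    S = T ∨ (S ⊓ T = ⊥ ∧ T ≤ centralizer (S : Set G)) := by
  rcases eq_or_ne S T with rfl | hne
  · exact Or.inl rfl
  right
  have hnorm : ∀ n ∈ N, ∀ x ∈ S ⊓ T, n * x * n⁻¹ ∈ S ⊓ T :=
    fun n hn x hx => ⟨hS.norm n hn x hx.1, hT.norm n hn x hx.2⟩
  have hbot : S ⊓ T = ⊥ := by
    rcases hS.min _ inf_le_left hnorm with h | h
    · exact h
    rcases hT.min _ inf_le_right hnorm with h' | h'
    · exact h'
    exact absurd (h.symm.trans h') hne
  refine ⟨hbot, fun t ht s hs => ?_⟩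
  have h1 : s * t * s⁻¹ * t⁻¹ ∈ S := by
    have := mul_mem hs (hT.le ht |> fun htN => hS.norm t htN _ (inv_mem hs))
    simpa [mul_assoc] using this
  have h2 : s * t * s⁻¹ * t⁻¹ ∈ T := mul_mem (hT.norm s (hS.le hs) t ht) (inv_mem ht)
  have : s * t * s⁻¹ * t⁻¹ ∈ S ⊓ T := ⟨h1, h2⟩
  rw [hbot, Subgroup.mem_bot, mul_inv_eq_one, mul_inv_eq_iff_eq_mul] at this
  exact this

theorem centralizer_normal_of_normal (N : Subgroup G) [hN : N.Normal] :
    (centralizer (N : Set G)).Normal := by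
  refine ⟨fun c hc g => fun n hn => ?_⟩
  have h := hc _ (hN.conj_mem n hn g⁻¹)
  have h2 : g * (g⁻¹ * n * g⁻¹⁻¹ * c) * g⁻¹ = g * (c * (g⁻¹ * n * g⁻¹⁻¹)) * g⁻¹ := by rw [h]
  simpa [mul_assoc] using h2

section minimal

variable {N : Subgroup G} [hN : N.Normal]
  (hmin : ∀ M : Subgroup G, M.Normal → M ≤ N → M = ⊥ ∨ M = N)
include hmin

theorem iSup_cj_eq {S : Subgroup G} (hS : IsFactor N S) : ⨆ g : G, cj g S = N := by
  refine (hmin _ ⟨fun x hx a => ?_⟩ (iSup_le fun g => (hS.map g).le)).resolve_left fun h => ?_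
  · induction hx using Subgroup.iSup_induction' with
    | hp g x hx =>
      refine Subgroup.mem_iSup_of_mem (a * g) ?_
      rw [mem_cj] at hx ⊢
      simpa [mul_assoc] using hx
    | h1 => simp
    | hmul x y _ _ hx hy =>
      rw [show a * (x * y) * a⁻¹ = (a * x * a⁻¹) * (a * y * a⁻¹) by simp [mul_assoc]]
      exact mul_mem hx hy
  · exact (hS.map 1).ne_bot (eq_bot_iff.2 (h ▸ le_iSup (fun g => cj g S) 1))

theorem IsFactor.inf_centralizer (hna : ¬ IsMulCommutative N) {S : Subgroup G}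
    (hS : IsFactor N S) : S ⊓ centralizer (S : Set G) = ⊥ := by
  refine (hS.min _ inf_le_left fun n hn x hx => ⟨hS.norm n hn x hx.1, fun s hs => ?_⟩).resolve_right
    fun h => hna ?_
  · have h1 := hx.2 _ (by simpa using hS.norm n⁻¹ (inv_mem hn) s hs : n⁻¹ * s * n ∈ S)
    have h2 : n * (n⁻¹ * s * n * x) * n⁻¹ = n * (x * (n⁻¹ * s * n)) * n⁻¹ := by rw [h1]
    simpa [mul_assoc] using h2
  · have hcomm : ∀ s ∈ S, ∀ t ∈ S, s * t = t * s := fun s hs t ht => by
      have : t ∈ S ⊓ centralizer (S : Set G) := by rw [h]; exact ht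
      exact this.2 s hs
    have hC : ∀ g : G, cj g S ≤ centralizer ((⨆ g : G, cj g S : Subgroup G) : Set G) := by
      intro g
      rw [le_centralizer_iff, iSup_le_iff]
      intro b
      rcases (hS.map g).eq_or_disjoint (hS.map b) with he | he
      · rw [← he]
        rintro _ ⟨y, hy, rfl⟩ _ ⟨z, hz, rfl⟩
        rw [← map_mul, ← map_mul, hcomm z hz y hy]
      · exact he.2
    rw [← le_centralizer_iff_isMulCommutative]
    rw [← iSup_cj_eq hmin hS]
    exact iSup_le hC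

theorem IsFactor.decomp {S : Subgroup G} (hS : IsFactor N S) :
    ∀ n ∈ N, ∃ s ∈ S, ∃ c ∈ centralizer (S : Set G) ⊓ N, n = s * c := by
  let P : Subgroup G :=
    { carrier := {n | ∃ s ∈ S, ∃ c ∈ centralizer (S : Set G) ⊓ N, n = s * c}
      one_mem' := ⟨1, one_mem _, 1, one_mem _, (one_mul _).symm⟩
      mul_mem' := by
        rintro _ _ ⟨s, hs, c, hc, rfl⟩ ⟨t, ht, d, hd, rfl⟩
        refine ⟨s * t, mul_mem hs ht, c * d, mul_mem hc hd, ?_⟩
        rw [mul_assoc, ← mul_assoc c t d, ← hc.1 t ht]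
        simp [mul_assoc]
      inv_mem' := by
        rintro _ ⟨s, hs, c, hc, rfl⟩
        refine ⟨s⁻¹, inv_mem hs, c⁻¹, inv_mem hc, ?_⟩
        rw [← mul_inv_rev, (hc.1 s hs)] }
  have hle : N ≤ P := by
    conv_lhs => rw [← iSup_cj_eq hmin hS]
    refine iSup_le fun g x hx => ?_
    rcases hS.eq_or_disjoint (hS.map g) with he | he
    · exact ⟨x, he ▸ hx, 1, one_mem _, (mul_one _).symm⟩
    · exact ⟨1, one_mem _, x, ⟨he.2 hx, (hS.map g).le hx⟩, (one_mul _).symm⟩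
  exact fun n hn => hle hn

theorem IsFactor.isSimpleGroup {S : Subgroup G} (hS : IsFactor N S) : IsSimpleGroup S := by
  haveI : Nontrivial S := (Subgroup.nontrivial_iff_ne_bot _).2 hS.ne_bot
  refine ⟨fun X hX => ?_⟩
  have hnorm : ∀ n ∈ N, ∀ x ∈ X.map S.subtype, n * x * n⁻¹ ∈ X.map S.subtype := by
    rintro n hn _ ⟨x, hx, rfl⟩
    obtain ⟨s, hs, c, hc, rfl⟩ := hS.decomp hmin n hn
    refine ⟨⟨s, hs⟩ * x * ⟨s, hs⟩⁻¹, hX.conj_mem x hx ⟨s, hs⟩, ?_⟩
    simp only [coe_subtype, Subgroup.coe_mul, Subgroup.coe_inv]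
    have h1 : c * (x : G) = x * c := (hc.1 x x.2).symm
    rw [mul_inv_rev, mul_assoc s c, h1]
    group
  rcases hS.min (X.map S.subtype) (map_subtype_le X) hnorm with h | h
  · exact Or.inl ((map_eq_bot_iff_of_injective _ S.subtype_injective).1 h)
  · exact Or.inr (map_injective S.subtype_injective (h.trans (by simp [← MonoidHom.range_eq_map])))

end minimal

theorem center_eq_bot_of_inf_centralizer {S : Subgroup G}
    (h : S ⊓ centralizer (S : Set G) = ⊥) : Subgroup.center S = ⊥ :=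
  (eq_bot_iff_forall _).2 fun x hx => Subtype.ext <| by
    have : (x : G) ∈ S ⊓ centralizer (S : Set G) :=
      ⟨x.2, fun y hy => congrArg Subtype.val (Subgroup.mem_center_iff.1 hx ⟨y, hy⟩)⟩
    rw [h, Subgroup.mem_bot] at this
    exact this

/-- `x` times some element of `N` centralising `X` has a fixed point. -/
def Fixable (Ω : Type*) [MulAction G Ω] (N X : Subgroup G) (x : G) : Prop :=
  ∃ c ∈ centralizer (X : Set G) ⊓ N, ∃ b : Ω, (x * c) • b = b

theorem fixable_conj {N X : Subgroup G} [hN : N.Normal] {x g : G} (h : Fixable Ω N X x) :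
    Fixable Ω N (cj g X) (g * x * g⁻¹) := by
  obtain ⟨c, hc, b, hb⟩ := h
  refine ⟨g * c * g⁻¹, ⟨?_, hN.conj_mem c hc.2 g⟩, g • b, ?_⟩
  · rintro _ ⟨y, hy, rfl⟩
    have h1 := hc.1 y hy
    have h2 : g * (y * c) * g⁻¹ = g * (c * y) * g⁻¹ := by rw [h1]
    simpa [mul_assoc] using h2
  · rw [← mul_smul]
    rw [show g * x * g⁻¹ * (g * c * g⁻¹) * g = g * (x * c) by simp [mul_assoc], mul_smul, hb]

theorem exists_not_fixable [Finite G] [FaithfulSMul G Ω] {N S : Subgroup G} [hN : N.Normal]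
    (hmin : ∀ M : Subgroup G, M.Normal → M ≤ N → M = ⊥ ∨ M = N) (hS : IsFactor N S)
    (hNt : IsPretransitive N Ω) {r : G} {b : Ω} (hr : r ∈ S) (hr1 : r ≠ 1) (hrb : r • b = b) :
    ∃ s ∈ S, ¬ Fixable Ω N S s := by
  let R : Subgroup S :=
    { carrier := {s | ∃ c ∈ centralizer (S : Set G) ⊓ N, ((s : G) * c) • b = b}
      one_mem' := ⟨1, one_mem _, by simp⟩
      mul_mem' := by
        rintro s t ⟨c, hc, h⟩ ⟨d, hd, h'⟩
        refine ⟨c * d, mul_mem hc hd, ?_⟩
        rw [Subgroup.coe_mul, show (s : G) * t * (c * d) = (s : G) * (t * c) * d by simp [mul_assoc],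
          hc.1 t t.2, show (s : G) * (c * t) * d = (s : G) * c * (t * d) by simp [mul_assoc],
          mul_smul, h', h]
      inv_mem' := by
        rintro s ⟨c, hc, h⟩
        refine ⟨c⁻¹, inv_mem hc, ?_⟩
        rw [Subgroup.coe_inv, ← mul_inv_rev, ← hc.1 s s.2, inv_smul_eq_iff, h] }
  by_cases hR : R = ⊤
  · exfalso
    have hfix : S ⊓ stabilizer G b = S := by
      refine (hS.min _ inf_le_left ?_).resolve_left fun h => hr1 ?_
      · intro n hn x hx
        refine ⟨hS.norm n hn x hx.1, ?_⟩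
        obtain ⟨s, hs, d, hd, rfl⟩ := hS.decomp hmin n hn
        obtain ⟨c, hc, hcb⟩ := (hR ▸ Subgroup.mem_top (⟨s, hs⟩ : S) : (⟨s, hs⟩ : S) ∈ R)
        have h1 : s * d * x * (s * d)⁻¹ = (s * c) * x * (s * c)⁻¹ := by
          rw [mul_assoc s d, ← hd.1 x hx.1, mul_assoc s c, ← hc.1 x hx.1]
          group
        show (s * d * x * (s * d)⁻¹) • b = b
        rw [h1, mul_smul, mul_smul]
        rw [show (s * c)⁻¹ • b = b from inv_smul_eq_iff.2 hcb.symm, mem_stabilizer_iff.1 hx.2, hcb]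
      · have : r ∈ S ⊓ stabilizer G b := ⟨hr, hrb⟩
        rw [h, Subgroup.mem_bot] at this
        exact this
    refine hS.ne_bot ((eq_bot_iff_forall _).2 fun s hs => eq_of_smul_eq_smul (α := Ω) fun w => ?_)
    obtain ⟨n, rfl⟩ := exists_smul_eq N b w
    have h1 : (n : G)⁻¹ * s * n ∈ S := by simpa using hS.norm _ (inv_mem n.2) s hs
    rw [← hfix] at h1
    have h2 := mem_stabilizer_iff.1 h1.2
    rw [mul_smul, mul_smul, inv_smul_eq_iff] at h2
    rw [one_smul]; exact h2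
  · haveI := Fintype.ofFinite (S ⧸ R)
    have h2 : 2 ≤ Nat.card (S ⧸ R) := by
      rw [← Subgroup.index_eq_card]; exact R.one_lt_index_of_ne_top hR
    obtain ⟨s, hs⟩ := exists_derangement (G := S) (Ω := S ⧸ R) inferInstance h2
    refine ⟨s, s.2, fun hf => ?_⟩
    obtain ⟨c, hc, b', hb'⟩ := hf
    obtain ⟨n, rfl⟩ := exists_smul_eq N b b'
    obtain ⟨y, hy, d, hd, hn⟩ := hS.decomp hmin n n.2
    refine hs (QuotientGroup.mk (⟨y, hy⟩ : S)) ?_
    rw [MulAction.Quotient.smul_mk, eq_comm, QuotientGroup.eq]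
    refine ⟨d⁻¹ * c * d, mul_mem (mul_mem (inv_mem hd) hc) hd, ?_⟩
    simp only [smul_eq_mul, Subgroup.coe_mul, Subgroup.coe_inv]
    have h1 : ((s : G) * c) • (y * d) • b = (y * d) • b := by rw [← hn]; exact hb'
    have hd1 : y⁻¹ * (s : G) * y ∈ S := mul_mem (mul_mem (inv_mem hy) s.2) hy
    rw [← mul_smul] at h1
    rw [show y⁻¹ * ((s : G) * y) * (d⁻¹ * c * d) = (y * d)⁻¹ * ((s : G) * c) * (y * d) by
      rw [mul_inv_rev, ← mul_assoc y⁻¹ _ y]
      calc y⁻¹ * (s : G) * y * (d⁻¹ * c * d) = (y⁻¹ * (s : G) * y * d⁻¹) * (c * d) := by group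
        _ = (d⁻¹ * (y⁻¹ * (s : G) * y)) * (c * d) := by rw [inv_mem hd |>.1 _ hd1]
        _ = d⁻¹ * y⁻¹ * (s : G) * (y * c) * d := by group
        _ = d⁻¹ * y⁻¹ * (s : G) * (c * y) * d := by rw [hc.1 y hy]
        _ = _ := by group,
      mul_smul, mul_smul, inv_smul_eq_iff, ← mul_smul]
    exact h1

theorem not_isPow_of_dvd {n q p : ℕ} (hp : p.Prime) (hq : q.Prime) (hne : q ≠ p) (h : q ∣ n)
    (k : ℕ) : n ≠ p ^ k := fun he =>
  hne ((Nat.prime_dvd_prime_iff_eq hq hp).1 (hq.dvd_of_dvd_pow (he ▸ h)))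

theorem dichotomy [Finite G] [Finite Ω] [FaithfulSMul G Ω] (hprim : IsPreprimitive G Ω)
    (hΩ : 2 ≤ Nat.card Ω) (hna : ∀ N : Subgroup G, N.Normal → IsMulCommutative N → N = ⊥)
    (hnas : ¬ ∃ T : Subgroup G, T.Normal ∧ IsSimpleGroup T ∧ ¬ IsMulCommutative T ∧
      centralizer (T : Set G) = ⊥) :
    (∃ S : Subgroup G, S ≠ ⊥ ∧ S ⊓ centralizer (S : Set G) = ⊥ ∧ centralizer (S : Set G) ≠ ⊥ ∧
      ∀ s ∈ S, ∀ w : Ω, s • w = w → s = 1) ∨
    (∃ N S T : Subgroup G, N.Normal ∧ (∀ g : G, IsFactor N (cj g S)) ∧ IsFactor N S ∧ IsFactor N T ∧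
      (∃ g : G, T = cj g S) ∧ S ⊓ T = ⊥ ∧ T ≤ centralizer (S : Set G) ∧
      (∀ g : G, cj g S ⊓ centralizer (cj g S : Set G) = ⊥) ∧
      (∃ t ∈ S, ¬ Fixable Ω N S t) ∧ (∃ u ∈ T, ¬ Fixable Ω N T u) ∧
      ∃ r ∈ T, r ≠ 1 ∧ Fixable Ω N T r) := by
  classical
  have hΩ' : Nontrivial Ω := Finite.one_lt_card_iff_nontrivial.1 (by omega)
  have htr : ∀ M : Subgroup G, M.Normal → M ≠ ⊥ → IsPretransitive M Ω := by
    intro M hM hMb
    haveI := hM
    haveI := hprim
    refine IsQuasiPreprimitive.isPretransitive_of_normal fun h => hMb ?_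
    refine (eq_bot_iff_forall _).2 fun m hm => eq_of_smul_eq_smul (α := Ω) fun w => ?_
    have hw : w ∈ fixedPoints M Ω := by rw [h]; trivial
    rw [one_smul]; exact hw ⟨m, hm⟩
  have hGb : (⊤ : Subgroup G) ≠ ⊥ := by
    intro h
    obtain ⟨x, y, hxy⟩ := exists_pair_ne Ω
    obtain ⟨g, hg⟩ := hprim.exists_smul_eq x y
    have : g ∈ (⊥ : Subgroup G) := h ▸ Subgroup.mem_top g
    rw [Subgroup.mem_bot] at this
    rw [this, one_smul] at hg
    exact hxy hg
  obtain ⟨N, hN⟩ := exists_minimal_of_wellFoundedLT (fun X : Subgroup G => X.Normal ∧ X ≠ ⊥)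
    ⟨⊤, inferInstance, hGb⟩
  haveI := hN.1.1
  have hmin : ∀ M : Subgroup G, M.Normal → M ≤ N → M = ⊥ ∨ M = N := fun M hM hle =>
    or_iff_not_imp_left.2 fun hb => le_antisymm hle (hN.2 ⟨hM, hb⟩ hle)
  have hNna : ¬ IsMulCommutative N := fun h => hN.1.2 (hna N inferInstance h)
  obtain ⟨S, hS⟩ := exists_factor N hN.1.2
  have hSC := hS.inf_centralizer hmin hNna
  have hNt := htr N inferInstance hN.1.2
  by_cases hCN : centralizer (N : Set G) = ⊥
  swap
  · left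
    refine ⟨S, hS.ne_bot, hSC, fun h => hCN (eq_bot_iff.2 (h ▸ centralizer_le hS.le)), ?_⟩
    haveI := htr _ (centralizer_normal_of_normal N) hCN
    intro s hs w hw
    refine eq_of_smul_eq_smul (α := Ω) fun v => ?_
    obtain ⟨c, rfl⟩ := exists_smul_eq (centralizer (N : Set G)) w v
    rw [one_smul, Subgroup.smul_def, ← mul_smul, c.2 s (hS.le hs), mul_smul, hw]
  have hex : ∃ g, cj g S ≠ S := by
    by_contra hc
    push Not at hc
    have h1 : N = S := by
      rw [← iSup_cj_eq hmin hS]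
      exact le_antisymm (iSup_le fun g => (hc g).le) ((hc 1).symm.le.trans (le_iSup (fun g => cj g S) 1))
    exact hnas ⟨N, inferInstance, h1 ▸ hS.isSimpleGroup hmin, hNna, hCN⟩
  obtain ⟨g, hg⟩ := hex
  have hT := hS.map g
  obtain ⟨hST, hTC⟩ := (hS.eq_or_disjoint hT).resolve_left (Ne.symm hg)
  by_cases hsemi : ∀ s ∈ S, ∀ w : Ω, s • w = w → s = 1
  · exact Or.inl ⟨S, hS.ne_bot, hSC, fun h => hT.ne_bot (eq_bot_iff.2 (h ▸ hTC)), hsemi⟩
  push Not at hsemi
  obtain ⟨r, hr, b, hrb, hr1⟩ := hsemi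
  have hr' : g * r * g⁻¹ ∈ cj g S := conj_mem_cj hr
  have hr1' : g * r * g⁻¹ ≠ 1 := fun h => hr1 (conj_eq_one_iff.1 h)
  have hrb' : (g * r * g⁻¹) • g • b = g • b := by rw [mul_smul, mul_smul, inv_smul_smul, hrb]
  exact Or.inr ⟨N, S, cj g S, inferInstance, fun a => hS.map a, hS, hT, ⟨g, rfl⟩, hST, hTC,
    fun a => (hS.map a).inf_centralizer hmin hNna, exists_not_fixable hmin hS hNt hr hr1 hrb,
    exists_not_fixable hmin hT hNt hr' hr1' hrb', g * r * g⁻¹, hr', hr1', 1, one_mem _, g • b,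
    by rw [mul_one, hrb']⟩

theorem orderOf_mul_dvd {S T : Subgroup G} (hST : S ⊓ T = ⊥) (hTC : T ≤ centralizer (S : Set G))
    {t u : G} (ht : t ∈ S) (hu : u ∈ T) : orderOf u ∣ orderOf (t * u) := by
  have hc : Commute t u := hTC hu t ht
  have h := pow_orderOf_eq_one (t * u)
  rw [hc.mul_pow] at h
  refine orderOf_dvd_of_pow_eq_one ?_
  have h1 : u ^ orderOf (t * u) ∈ S ⊓ T :=
    ⟨eq_inv_of_mul_eq_one_right h ▸ S.inv_mem (S.pow_mem ht _), pow_mem hu _⟩
  rw [hST, Subgroup.mem_bot] at h1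
  exact h1

/-- In a primitive group that is neither affine nor almost simple, for every prime `p` some
derangement has order that is not a power of `p`. -/
theorem exists_derangement_order_not_pow [Finite G] [Finite Ω] [FaithfulSMul G Ω]
    (hprim : IsPreprimitive G Ω) (hΩ : 2 ≤ Nat.card Ω)
    (hna : ∀ N : Subgroup G, N.Normal → IsMulCommutative N → N = ⊥)
    (hnas : ¬ ∃ T : Subgroup G, T.Normal ∧ IsSimpleGroup T ∧ ¬ IsMulCommutative T ∧
      centralizer (T : Set G) = ⊥) {p : ℕ} (hp : p.Prime) :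
    ∃ g : G, (∀ w : Ω, g • w ≠ w) ∧ ∀ k, orderOf g ≠ p ^ k := by
  rcases dichotomy hprim hΩ hna hnas with
    ⟨S, hSb, hSC, -, hsemi⟩ | ⟨N, S, T, -, -, hS, hT, ⟨g, hg⟩, hST, hTC, hall, ⟨t, ht, htf⟩, -, -⟩
  · haveI := (Subgroup.nontrivial_iff_ne_bot _).2 hSb
    obtain ⟨q, hq, hne, x, hx⟩ := exists_prime_orderOf_ne (center_eq_bot_of_inf_centralizer hSC) p
    rw [← Subgroup.orderOf_coe] at hx
    refine ⟨x, fun w hw => hq.ne_one ?_, not_isPow_of_dvd hp hq hne (dvd_of_eq hx.symm)⟩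
    rw [← hx, hsemi x x.2 w hw, orderOf_one]
  · haveI := (Subgroup.nontrivial_iff_ne_bot _).2 hT.ne_bot
    have hTc : T ⊓ centralizer (T : Set G) = ⊥ := hg ▸ hall g
    obtain ⟨q, hq, hne, u, hu⟩ := exists_prime_orderOf_ne (center_eq_bot_of_inf_centralizer hTc) p
    rw [← Subgroup.orderOf_coe] at hu
    exact ⟨t * u, fun w hw => htf ⟨u, ⟨hTC u.2, hT.le u.2⟩, w, hw⟩,
      not_isPow_of_dvd hp hq hne (hu ▸ orderOf_mul_dvd hST hTC ht u.2)⟩

theorem orderOf_eq_of_isConj {x y : G} (h : IsConj x y) : orderOf x = orderOf y := by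
  obtain ⟨g, hg⟩ := isConj_iff.1 h
  rw [← hg, ← MulAut.conj_apply, MulEquiv.orderOf_eq]

theorem three_of_semiregular [Finite G] {S : Subgroup G} (hSb : S ≠ ⊥)
    (hSC : S ⊓ centralizer (S : Set G) = ⊥) (hC : centralizer (S : Set G) ≠ ⊥)
    (hsemi : ∀ s ∈ S, ∀ w : Ω, s • w = w → s = 1) :
    ∃ a b c : G, (∀ w : Ω, a • w ≠ w) ∧ (∀ w : Ω, b • w ≠ w) ∧ (∀ w : Ω, c • w ≠ w) ∧
      ¬ IsConj a b ∧ ¬ IsConj a c ∧ ¬ IsConj b c := by
  haveI := (Subgroup.nontrivial_iff_ne_bot _).2 hSb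
  haveI := (Subgroup.nontrivial_iff_ne_bot _).2 hC
  obtain ⟨r, hr, hrd⟩ := Nat.exists_prime_and_dvd
    (Finite.one_lt_card (α := centralizer (S : Set G))).ne'
  haveI := Fact.mk hr
  obtain ⟨z, hz⟩ := exists_prime_orderOf_dvd_card' r hrd
  obtain ⟨p, hp, hpr, x, hx⟩ := exists_prime_orderOf_ne (center_eq_bot_of_inf_centralizer hSC) r
  obtain ⟨q, hq, hqp, y, hy⟩ := exists_prime_orderOf_ne (center_eq_bot_of_inf_centralizer hSC) p
  rw [← Subgroup.orderOf_coe] at hx hy hz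
  have hc : Commute (x : G) z := z.2 x x.2
  have hxz : orderOf ((x : G) * z) = p * r := by
    rw [hc.orderOf_mul_eq_mul_orderOf_of_coprime, hx, hz]
    rw [hx, hz]; exact (Nat.coprime_primes hp hr).2 hpr
  have hne : ∀ (s : S) (o : ℕ), orderOf (s : G) = o → o ≠ 1 → ∀ w : Ω, (s : G) • w ≠ w :=
    fun s o ho ho1 w hw => ho1 (by rw [← ho, hsemi s s.2 w hw, orderOf_one])
  refine ⟨x, y, (x : G) * z, hne x p hx hp.ne_one, hne y q hy hq.ne_one, fun w hw => ?_,
    fun h => ?_, fun h => ?_, fun h => ?_⟩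
  · have h2 : ((x : G) * z) ^ r • w = w := by
      have : (x : G) * z ∈ stabilizer G w := hw
      exact pow_mem this r
    rw [hc.mul_pow, show (z : G) ^ r = 1 from hz ▸ pow_orderOf_eq_one _, mul_one] at h2
    have h3 := hsemi _ (pow_mem x.2 r) w h2
    have := orderOf_dvd_of_pow_eq_one h3
    rw [hx, Nat.prime_dvd_prime_iff_eq hp hr] at this
    exact hpr this
  · have := orderOf_eq_of_isConj h; rw [hx, hy] at this; exact hqp this.symm
  · have := orderOf_eq_of_isConj h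
    rw [hx, hxz] at this
    exact hr.ne_one (mul_left_cancel₀ hp.ne_zero (this.symm.trans (mul_one p).symm))
  · have := orderOf_eq_of_isConj h
    rw [hy, hxz] at this
    have h4 := this ▸ hq
    rcases Nat.prime_mul_iff.1 h4 with h5 | h5
    · exact hr.ne_one h5.2
    · exact hp.ne_one h5.2

theorem eq_of_mul_eq {S T : Subgroup G} (hST : S ⊓ T = ⊥) {s s' u u' : G} (hs : s ∈ S)
    (hs' : s' ∈ S) (hu : u ∈ T) (hu' : u' ∈ T) (h : s * u = s' * u') : s = s' ∧ u = u' := by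
  have h1 : s'⁻¹ * s ∈ S ⊓ T := by
    refine ⟨S.mul_mem (S.inv_mem hs') hs, ?_⟩
    rw [show s'⁻¹ * s = u' * u⁻¹ by
      rw [eq_mul_inv_iff_mul_eq, mul_assoc, h, inv_mul_cancel_left]]
    exact T.mul_mem hu' (T.inv_mem hu)
  rw [hST, Subgroup.mem_bot, inv_mul_eq_one] at h1
  subst h1
  exact ⟨rfl, mul_left_cancel h⟩

/-- A primitive group that is neither affine nor almost simple has three classes of derangements. -/
theorem exists_three_derangement_classes [Finite G] [Finite Ω] [FaithfulSMul G Ω]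
    (hprim : IsPreprimitive G Ω) (hΩ : 2 ≤ Nat.card Ω)
    (hna : ∀ N : Subgroup G, N.Normal → IsMulCommutative N → N = ⊥)
    (hnas : ¬ ∃ T : Subgroup G, T.Normal ∧ IsSimpleGroup T ∧ ¬ IsMulCommutative T ∧
      centralizer (T : Set G) = ⊥) :
    ∃ a b c : G, (∀ w : Ω, a • w ≠ w) ∧ (∀ w : Ω, b • w ≠ w) ∧ (∀ w : Ω, c • w ≠ w) ∧
      ¬ IsConj a b ∧ ¬ IsConj a c ∧ ¬ IsConj b c := by
  rcases dichotomy hprim hΩ hna hnas with
    ⟨S, hSb, hSC, hC, hsemi⟩ | ⟨N, S, T, hN, hfac, hS, hT, ⟨g₀, hg₀⟩, hST, hTC, hall, ⟨t, ht, htf⟩,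
      ⟨u, hu, huf⟩, r, hr, hr1, hrf⟩
  · exact three_of_semiregular hSb hSC hC hsemi
  haveI := hN
  obtain ⟨w₀⟩ : Nonempty Ω := (Nat.card_pos_iff.1 (by omega)).1
  have hu1 : u ≠ 1 := fun h => huf ⟨1, one_mem _, w₀, by simp [h]⟩
  have ht1 : t ≠ 1 := fun h => htf ⟨1, one_mem _, w₀, by simp [h]⟩
  have hder : ∀ y ∈ T, ∀ w : Ω, (t * y) • w ≠ w :=
    fun y hy w hw => htf ⟨y, ⟨hTC hy, hT.le hy⟩, w, hw⟩
  have h1 : ∀ y ∈ T, y ≠ 1 → ¬ IsConj t (t * y) := by
    intro y hy hy1 hc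
    obtain ⟨g, hg⟩ := isConj_iff.1 hc
    have hm : t * y ∈ cj g S := hg ▸ conj_mem_cj ht
    rcases hS.eq_or_disjoint (hfac g) with he | he
    · rw [← he] at hm
      have : y ∈ S ⊓ T := ⟨(Subgroup.mul_mem_cancel_left S ht).1 hm, hy⟩
      rw [hST, Subgroup.mem_bot] at this
      exact hy1 this
    · have h2 : t ∈ S ⊓ centralizer (S : Set G) :=
        ⟨ht, (Subgroup.mul_mem_cancel_right _ (hTC hy)).1 (he.2 hm)⟩
      have h3 := hall 1
      have hS1 : cj 1 S = S := by ext z; rw [mem_cj]; simp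
      rw [hS1] at h3
      rw [h3, Subgroup.mem_bot] at h2
      exact ht1 h2
  refine ⟨t, t * u, t * r, fun w hw => hder 1 (one_mem _) w (by rwa [mul_one]), hder u hu, hder r hr,
    h1 u hu hu1, h1 r hr hr1, fun hc => ?_⟩
  obtain ⟨g, hg⟩ := isConj_iff.1 hc
  have he : (g * t * g⁻¹) * (g * u * g⁻¹) = t * r := by rw [← hg]; simp [mul_assoc]
  have hs' : g * t * g⁻¹ ∈ cj g S := conj_mem_cj ht
  have hu' : g * u * g⁻¹ ∈ cj g T := conj_mem_cj hu
  have hT'fac : IsFactor N (cj g T) := hT.map g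
  have hdisj : cj g S ≠ cj g T := fun h => by
    have h' : S = T := map_injective (MulAut.conj g).injective h
    rw [← h', inf_idem] at hST
    exact hS.ne_bot hST
  have hC' : cj g T ⊓ centralizer (cj g T : Set G) = ⊥ := by
    have := hall (g * g₀)
    have heq : cj (g * g₀) S = cj g T := by
      rw [hg₀]; ext z; simp only [mem_cj, mul_inv_rev, mul_assoc]
    rwa [heq] at this
  have hTT' : cj g S ⊓ cj g T = ⊥ ∧ cj g T ≤ centralizer (cj g S : Set G) :=
    ((hfac g).eq_or_disjoint hT'fac).resolve_left hdisj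
  -- each of the two factors of the conjugate is `S` or `T`
  have hS' : cj g S = S ∨ cj g S = T := by
    rcases (hfac g).eq_or_disjoint hS with h | h
    · exact Or.inl h
    rcases (hfac g).eq_or_disjoint hT with h' | h'
    · exact Or.inr h'
    exfalso
    have hm : g * t * g⁻¹ ∈ cj g S ⊓ centralizer (cj g S : Set G) := by
      refine ⟨hs', (Subgroup.mul_mem_cancel_right _ (hTT'.2 hu')).1 ?_⟩
      rw [he]; exact mul_mem (h.2 ht) (h'.2 hr)
    rw [hall g, Subgroup.mem_bot] at hm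
    exact ht1 (conj_eq_one_iff.1 hm)
  have hT' : cj g T = S ∨ cj g T = T := by
    rcases hT'fac.eq_or_disjoint hS with h | h
    · exact Or.inl h
    rcases hT'fac.eq_or_disjoint hT with h' | h'
    · exact Or.inr h'
    exfalso
    have hm : g * u * g⁻¹ ∈ cj g T ⊓ centralizer (cj g T : Set G) := by
      refine ⟨hu', (Subgroup.mul_mem_cancel_left _ (le_centralizer_iff.1 hTT'.2 hs')).1 ?_⟩
      rw [he]; exact mul_mem (h.2 ht) (h'.2 hr)
    rw [hC', Subgroup.mem_bot] at hm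
    exact hu1 (conj_eq_one_iff.1 hm)
  rcases hS' with h | h
  · have h' : cj g T = T := hT'.resolve_left fun h'' => hdisj (h.trans h''.symm)
    rw [h] at hs'; rw [h'] at hu'
    obtain ⟨-, h2⟩ := eq_of_mul_eq hST hs' ht hu' hr he
    refine huf ?_
    have h5 := fixable_conj (g := g⁻¹) hrf
    rw [← h2] at h5
    convert h5 using 1
    · exact (cj_inv_of_eq h').symm
    · simp [mul_assoc]
  · have h' : cj g T = S := hT'.resolve_right fun h'' => hdisj (h.trans h''.symm)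
    rw [h] at hs'; rw [h'] at hu'
    have he' : (g * u * g⁻¹) * (g * t * g⁻¹) = t * r := by rw [hTC hs' _ hu']; exact he
    obtain ⟨-, h2⟩ := eq_of_mul_eq hST hu' ht hs' hr he'
    refine htf ?_
    have h5 := fixable_conj (g := g⁻¹) hrf
    rw [← h2] at h5
    convert h5 using 1
    · exact (cj_inv_of_eq h).symm
    · simp [mul_assoc]

end CfsgLib.Fixity
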