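import Cfsg.Agent.Lib.Fixity.Manning
import Cfsg.Agent.Lib.Fixity.AffineDerangements

/-!
The point stabiliser of an extremely primitive group as an abstract group.
-/

set_option autoImplicit false
set_option linter.style.haveILetI false

namespace CfsgLib.Fixity

open MulAction Subgroup

variable {G Ω : Type*} [Group G] [MulAction G Ω]

theorem faithful_orbit [Finite G] [FaithfulSMul G Ω] [Finite Ω] (hprim : IsPreprimitive G Ω) {a : Ω}
    (hH : stabilizer G a ≠ ⊥)
    (hep : ∀ x : Ω, IsPreprimitive (stabilizer G a) (orbit (stabilizer G a) x)) {w : Ω}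
    (hw : w ≠ a) : FaithfulSMul (stabilizer G a) (orbit (stabilizer G a) w) :=
  ⟨fun {h k} hhk => by
    rw [← inv_mul_eq_one]
    apply Subtype.ext
    show ((h⁻¹ * k : stabilizer G a) : G) = 1
    refine manning hprim hH hep hw (h⁻¹ * k).2 fun x hx => ?_
    have h1 : (h⁻¹ * k) • (⟨x, hx⟩ : orbit (stabilizer G a) w) = ⟨x, hx⟩ := by
      rw [mul_smul, ← hhk, inv_smul_smul]
    exact congrArg Subtype.val h1⟩

/-- An abelian nontrivial normal subgroup of the stabiliser is regular on every other suborbit and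
is its own centraliser in the stabiliser. -/
theorem abelian_normal_suborbit [Finite G] [FaithfulSMul G Ω] [Finite Ω]
    (hprim : IsPreprimitive G Ω) {a : Ω} (hH : stabilizer G a ≠ ⊥)
    (hep : ∀ x : Ω, IsPreprimitive (stabilizer G a) (orbit (stabilizer G a) x)) {w : Ω}
    (hw : w ≠ a) {A : Subgroup (stabilizer G a)} [A.Normal] (hA : A ≠ ⊥)
    (hc : IsMulCommutative A) :
    IsPretransitive A (orbit (stabilizer G a) w) ∧
      (∀ x : orbit (stabilizer G a) w, stabilizer A x = ⊥) ∧
      Nat.card A = (orbit (stabilizer G a) w).ncard ∧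
      Subgroup.centralizer (A : Set (stabilizer G a)) = A := by
  haveI := faithful_orbit hprim hH hep hw
  obtain ⟨ht, hreg⟩ := abelian_normal_regular (hep w) hA hc
  haveI := ht
  haveI : Nonempty (orbit (stabilizer G a) w) := ⟨⟨w, mem_orbit_self w⟩⟩
  refine ⟨ht, hreg, ?_, CfsgLib.PermGroups.centralizer_eq_self_of_abelian_transitive
    (orbit (stabilizer G a) w) A hc⟩
  rw [card_regular_eq ht hreg ⟨w, mem_orbit_self w⟩, Nat.card_coe_set_eq]

end CfsgLib.Fixity
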