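import Mathlib

/-!
Manning's theorem: in an extremely primitive group a point stabiliser is faithful on each of its
non-trivial orbits.
-/

set_option autoImplicit false
set_option linter.style.haveILetI false

namespace CfsgLib.Fixity

open MulAction Subgroup Pointwise

variable {G Ω : Type*} [Group G] [MulAction G Ω]

/-- A point stabiliser of a primitive group fixes one point only, unless it is trivial. -/
theorem eq_of_stabilizer_le [Finite G] [FaithfulSMul G Ω] (hprim : IsPreprimitive G Ω) {a b : Ω}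
    (hH : stabilizer G a ≠ ⊥) (hle : stabilizer G a ≤ stabilizer G b) : b = a := by
  haveI := hprim
  by_contra hne
  haveI : Nontrivial Ω := ⟨⟨b, a, hne⟩⟩
  obtain ⟨g, rfl⟩ := exists_smul_eq G a b
  have hco := IsPreprimitive.isCoatom_stabilizer_of_isPreprimitive G a
  have hco' := IsPreprimitive.isCoatom_stabilizer_of_isPreprimitive G (g • a)
  rcases lt_or_eq_of_le hle with h | h
  · exact hco'.1 (hco.2 _ h)
  have hg : g ∈ Subgroup.normalizer (stabilizer G a : Set G) := by
    rw [Subgroup.mem_normalizer_iff]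
    intro x
    constructor
    · intro hx
      rw [h, mem_stabilizer_iff, mul_smul, inv_smul_smul, mul_smul]
      rw [mem_stabilizer_iff.1 hx]
    · intro hx
      rw [h, mem_stabilizer_iff, mul_smul, inv_smul_smul, mul_smul, smul_left_cancel_iff] at hx
      exact hx
  rcases lt_or_eq_of_le (Subgroup.le_normalizer (H := stabilizer G a)) with hlt | heq
  · haveI hn : (stabilizer G a).Normal := Subgroup.normalizer_eq_top_iff.1 (hco.2 _ hlt)
    apply hH
    rw [eq_bot_iff]
    intro x hx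
    rw [Subgroup.mem_bot]
    refine eq_of_smul_eq_smul (α := Ω) fun w => ?_
    obtain ⟨y, rfl⟩ := exists_smul_eq G a w
    have := mem_stabilizer_iff.1 (hn.conj_mem x hx y⁻¹)
    rw [inv_inv, mul_smul, mul_smul, inv_smul_eq_iff] at this
    rw [one_smul]
    exact this
  · exact hne (mem_stabilizer_iff.1 (heq ▸ hg))

/-- A set invariant under two distinct point stabilisers of a primitive group is trivial. -/
theorem false_of_invariant_two_stabilizers [Finite G] [FaithfulSMul G Ω]
    (hprim : IsPreprimitive G Ω) {a b : Ω} (hH : stabilizer G a ≠ ⊥) (hab : b ≠ a) {S : Set Ω}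
    (hS : S.Nonempty) (haS : a ∉ S) (h1 : ∀ g ∈ stabilizer G a, g • S = S)
    (h2 : ∀ g ∈ stabilizer G b, g • S = S) : False := by
  haveI := hprim
  haveI : Nontrivial Ω := ⟨⟨b, a, hab⟩⟩
  have hco := IsPreprimitive.isCoatom_stabilizer_of_isPreprimitive G a
  have hle : stabilizer G a < stabilizer G S := by
    refine lt_of_le_of_ne h1 fun h => hab ?_
    have hb : stabilizer G b ≤ stabilizer G a := fun x hx => h.symm ▸ h2 x hx
    obtain ⟨c, rfl⟩ := exists_smul_eq G b a
    refine (eq_of_stabilizer_le hprim ?_ hb).symm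
    intro hbot
    apply hH
    rw [eq_bot_iff]
    intro x hx
    have : c⁻¹ * x * c ∈ stabilizer G b := by
      rw [mem_stabilizer_iff, mul_smul, mul_smul, mem_stabilizer_iff.1 hx, inv_smul_smul]
    rw [hbot, Subgroup.mem_bot] at this
    rw [Subgroup.mem_bot]
    calc x = c * (c⁻¹ * x * c) * c⁻¹ := by group
      _ = 1 := by rw [this]; group
  obtain ⟨s, hs⟩ := hS
  obtain ⟨x, hx⟩ := exists_smul_eq G s a
  apply haS
  have hxS : x • S = S := mem_stabilizer_iff.1 (hco.2 _ hle ▸ Subgroup.mem_top x)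
  rw [← hx, ← hxS]
  exact Set.smul_mem_smul_set hs

/-- A normal subgroup of a point stabiliser moving a point is transitive on its suborbit. -/
theorem orbit_subset_of_normal_moves {a x : Ω}
    (hep : IsPreprimitive (stabilizer G a) (orbit (stabilizer G a) x)) {M : Subgroup G}
    (hMle : M ≤ stabilizer G a) (hMn : stabilizer G a ≤ Subgroup.normalizer (M : Set G)) {m : G}
    (hm : m ∈ M) (hmx : m • x ≠ x) : orbit (stabilizer G a) x ⊆ orbit M x := by
  set H := stabilizer G a
  haveI := hep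
  haveI : (M.subgroupOf H).Normal := (Subgroup.normal_subgroupOf_iff_le_normalizer hMle).2 hMn
  have hne : fixedPoints (M.subgroupOf H) (orbit H x) ≠ Set.univ := by
    intro h
    apply hmx
    have h1 : (⟨x, mem_orbit_self x⟩ : orbit H x) ∈ fixedPoints (M.subgroupOf H) (orbit H x) := by
      rw [h]; trivial
    exact congrArg Subtype.val (h1 ⟨⟨m, hMle hm⟩, hm⟩)
  haveI := IsQuasiPreprimitive.isPretransitive_of_normal (N := M.subgroupOf H) hne
  intro y hy
  obtain ⟨k, hk⟩ := exists_smul_eq (M.subgroupOf H) (⟨x, mem_orbit_self x⟩ : orbit H x) ⟨y, hy⟩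
  exact ⟨⟨((k : H) : G), k.2⟩, congrArg Subtype.val hk⟩

theorem orbit_stabilizer_smul (g : G) (a x : Ω) :
    orbit (stabilizer G (g • a)) (g • x) = g • orbit (stabilizer G a) x := by
  have key : ∀ (u : G) (b y : Ω),
      u • orbit (stabilizer G b) y ⊆ orbit (stabilizer G (u • b)) (u • y) := by
    rintro u b y _ ⟨_, ⟨h, rfl⟩, rfl⟩
    refine ⟨⟨u * h * u⁻¹, ?_⟩, ?_⟩
    · rw [mem_stabilizer_iff, mul_smul, inv_smul_smul, mul_smul, mem_stabilizer_iff.1 h.2]
    · show (u * h * u⁻¹) • u • y = u • (h : G) • y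
      rw [mul_smul, inv_smul_smul, mul_smul]
  refine (key g a x).antisymm' fun y hy => ?_
  rw [Set.mem_smul_set_iff_inv_smul_mem]
  have := key g⁻¹ (g • a) (g • x) (Set.smul_mem_smul_set hy)
  rwa [inv_smul_smul, inv_smul_smul] at this

theorem ncard_orbit_stabilizer_smul (g : G) (a x : Ω) :
    (orbit (stabilizer G (g • a)) (g • x)).ncard = (orbit (stabilizer G a) x).ncard := by
  rw [orbit_stabilizer_smul, ← Set.image_smul,
    Set.ncard_image_of_injective _ (MulAction.injective g)]

/-- A normal subgroup of a point stabiliser fixing a second point fixes every largest suborbit. -/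
theorem smul_eq_of_normal_fixes [Finite G] [FaithfulSMul G Ω] [Finite Ω]
    (hprim : IsPreprimitive G Ω) {a : Ω} (hH : stabilizer G a ≠ ⊥)
    (hep : ∀ x : Ω, IsPreprimitive (stabilizer G a) (orbit (stabilizer G a) x)) {M : Subgroup G}
    (hMle : M ≤ stabilizer G a) (hMn : stabilizer G a ≤ Subgroup.normalizer (M : Set G)) {b : Ω}
    (hba : b ≠ a) (hb : ∀ m ∈ M, m • b = b) {x : Ω}
    (hmax : ∀ y : Ω, y ≠ a → (orbit (stabilizer G a) y).ncard ≤ (orbit (stabilizer G a) x).ncard) :
    ∀ m ∈ M, m • x = x := by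
  intro m hm
  by_contra hmx
  have hxa : x ≠ a := fun h => hmx (by rw [h]; exact mem_stabilizer_iff.1 (hMle hm))
  haveI := hprim
  obtain ⟨g, hg⟩ := exists_smul_eq G a b
  have hsub : orbit (stabilizer G a) x ⊆ orbit (stabilizer G b) x := by
    intro y hy
    obtain ⟨k, rfl⟩ := orbit_subset_of_normal_moves (hep x) hMle hMn hm hmx hy
    exact ⟨⟨k, mem_stabilizer_iff.2 (hb k k.2)⟩, rfl⟩
  have hcard : (orbit (stabilizer G b) x).ncard ≤ (orbit (stabilizer G a) x).ncard := by
    subst hg
    obtain ⟨x', rfl⟩ : ∃ x', g • x' = x := ⟨g⁻¹ • x, smul_inv_smul g x⟩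
    rw [ncard_orbit_stabilizer_smul]
    refine hmax x' fun h => hmx ?_
    rw [h]; exact hb m hm
  have heq := Set.eq_of_subset_of_ncard_le hsub hcard (Set.toFinite _)
  refine false_of_invariant_two_stabilizers hprim hH hba (S := orbit (stabilizer G a) x)
    ⟨x, mem_orbit_self x⟩ (fun ha => hxa ?_) (fun k hk => ?_) fun k hk => ?_
  · obtain ⟨k, hk⟩ := ha
    have hk' : (k : G) • x = a := hk
    rw [← inv_smul_eq_iff.2 hk'.symm]
    exact mem_stabilizer_iff.1 (inv_mem k.2)
  · exact smul_orbit (⟨k, hk⟩ : stabilizer G a) x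
  · rw [heq]
    exact smul_orbit (⟨k, hk⟩ : stabilizer G b) x

/-- **Manning's theorem**: a point stabiliser of an extremely primitive group is faithful on each of
its other orbits. -/
theorem manning [Finite G] [FaithfulSMul G Ω] [Finite Ω] (hprim : IsPreprimitive G Ω) {a : Ω}
    (hH : stabilizer G a ≠ ⊥)
    (hep : ∀ x : Ω, IsPreprimitive (stabilizer G a) (orbit (stabilizer G a) x)) {w : Ω} (hw : w ≠ a)
    {h : G} (hh : h ∈ stabilizer G a) (hfix : ∀ x ∈ orbit (stabilizer G a) w, h • x = x) :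
    h = 1 := by
  haveI := hprim
  set H := stabilizer G a with hHdef
  -- pointwise stabilisers in `H` of invariant sets
  let Q : Set Ω → Subgroup G := fun S => H ⊓ fixingSubgroup G S
  have hQn : ∀ S : Set Ω, (∀ k ∈ H, ∀ x ∈ S, k • x ∈ S) →
      H ≤ Subgroup.normalizer (Q S : Set G) := by
    intro S hS k hk
    have key : ∀ u ∈ H, ∀ x, x ∈ Q S → u * x * u⁻¹ ∈ Q S := fun u hu x hx =>
      ⟨H.mul_mem (H.mul_mem hu hx.1) (H.inv_mem hu), (mem_fixingSubgroup_iff G).2 fun y hy => by
        rw [mul_smul, mul_smul, (mem_fixingSubgroup_iff G).1 hx.2 _ (hS _ (H.inv_mem hu) y hy),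
          smul_inv_smul]⟩
    rw [Subgroup.mem_normalizer_iff]
    refine fun x => ⟨key k hk x, fun hx => ?_⟩
    have := key k⁻¹ (H.inv_mem hk) _ hx
    simpa [mul_assoc] using this
  have horbinv : ∀ x : Ω, ∀ k ∈ H, ∀ y ∈ orbit H x, k • y ∈ orbit H x := fun x k hk y hy => by
    rw [← smul_orbit (⟨k, hk⟩ : H) x]; exact Set.smul_mem_smul_set hy
  -- a largest orbit
  obtain ⟨b, hba, hbmax⟩ := Set.exists_max_image {y : Ω | y ≠ a} (fun y => (orbit H y).ncard)
    (Set.toFinite _) ⟨w, hw⟩
  set Mx : Set Ω := {x : Ω | x ≠ a ∧ (orbit H x).ncard = (orbit H b).ncard}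
  have hinvMx : ∀ k ∈ H, ∀ x ∈ Mx, k • x ∈ Mx := by
    intro k hk x hx
    refine ⟨fun h' => hx.1 ?_, ?_⟩
    · rw [← inv_smul_eq_iff.2 h'.symm]
      exact mem_stabilizer_iff.1 (H.inv_mem hk)
    · rw [show k • x = (⟨k, hk⟩ : H) • x from rfl, orbit_eq_iff.2 (mem_orbit x _)]
      exact hx.2
  set K := Q Mx
  have hbK : b ∈ Mx := ⟨hba, rfl⟩
  have hfixK : ∀ M : Subgroup G, M ≤ H → H ≤ Subgroup.normalizer (M : Set G) →
      (∃ y, y ≠ a ∧ ∀ m ∈ M, m • y = y) → M ≤ K := by
    rintro M hMle hMn ⟨y, hy, hMy⟩ m hm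
    refine ⟨hMle hm, (mem_fixingSubgroup_iff G).2 fun x hx => ?_⟩
    exact smul_eq_of_normal_fixes hprim hH hep hMle hMn hy hMy
      (fun z hz => (hbmax z hz).trans hx.2.ge) m hm
  -- it is enough to show that `K` is trivial
  suffices hK : K = ⊥ by
    have hle := hfixK (Q (orbit H w)) inf_le_left (hQn _ (horbinv w))
      ⟨w, hw, fun m hm => (mem_fixingSubgroup_iff G).1 hm.2 w (mem_orbit_self w)⟩
    have := hle ⟨hh, (mem_fixingSubgroup_iff G).2 hfix⟩
    rwa [hK, Subgroup.mem_bot] at this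
  by_contra hK
  obtain ⟨g, hg⟩ := exists_smul_eq G a b
  have hKb : ∀ k ∈ K, k • b = b := fun k hk => (mem_fixingSubgroup_iff G).1 hk.2 b hbK
  -- the conjugate at `b` lies in the stabiliser of `a`
  have hLa : ∀ k ∈ K, (g * k * g⁻¹) • a = a := by
    intro k hk
    have hx : g⁻¹ • a ∈ Mx := by
      refine ⟨fun h' => hba ?_, ?_⟩
      · rw [inv_smul_eq_iff] at h'
        rw [← hg]; exact h'.symm
      · rw [← ncard_orbit_stabilizer_smul g a (g⁻¹ • a), smul_inv_smul, hg]
        -- paired suborbits have equal length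
        have e1 : ∀ u v : Ω, (orbit (stabilizer G u) v).ncard *
            Nat.card (stabilizer G u ⊓ stabilizer G v : Subgroup G) = Nat.card (stabilizer G u) := by
          intro u v
          have hs : stabilizer (stabilizer G u) v =
              (stabilizer G u ⊓ stabilizer G v).subgroupOf (stabilizer G u) := by
            ext z; simp [Subgroup.mem_subgroupOf, Subgroup.smul_def]
          have := Subgroup.card_mul_index (stabilizer (stabilizer G u) v)
          rw [index_stabilizer, hs,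
            Nat.card_congr (Subgroup.subgroupOfEquivOfLe inf_le_left).toEquiv] at this
          rw [mul_comm]; exact this
        have e2 := e1 b a
        have e3 := e1 a b
        rw [inf_comm] at e2
        have e4 : Nat.card (stabilizer G b) = Nat.card (stabilizer G a) := by
          rw [← hg]
          exact (Nat.card_congr (stabilizerEquivStabilizer (g := g) rfl).toEquiv).symm
        rw [e4, ← e3] at e2
        exact Nat.eq_of_mul_eq_mul_right Nat.card_pos e2
    rw [mul_smul, mul_smul, (mem_fixingSubgroup_iff G).1 hk.2 _ hx, smul_inv_smul]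
  set U : Set Ω := {x | ∃ k ∈ K, k • x ≠ x}
  have hUinv : ∀ k ∈ H, ∀ x ∈ U, k • x ∈ U := by
    rintro k hk x ⟨l, hl, hlx⟩
    refine ⟨k * l * k⁻¹, (Subgroup.mem_normalizer_iff.1 (hQn Mx hinvMx hk) l).1 hl, ?_⟩
    rw [mul_smul, inv_smul_smul, mul_smul]
    exact fun h' => hlx (MulAction.injective k h')
  -- the supports are disjoint
  have hdisj : ∀ x : Ω, ∀ k ∈ K, k • x ≠ x → ∀ l ∈ K, (g * l * g⁻¹) • x = x := by
    intro x k hk hkx l hl
    by_contra hlx
    have hxa : x ≠ a := fun h' => hkx (h' ▸ mem_stabilizer_iff.1 hk.1)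
    have s1 : orbit H x ⊆ orbit (stabilizer G b) x := by
      intro y hy
      obtain ⟨z, rfl⟩ := orbit_subset_of_normal_moves (hep x) inf_le_left (hQn Mx hinvMx) hk hkx hy
      exact ⟨⟨z, mem_stabilizer_iff.2 (hKb z z.2)⟩, rfl⟩
    have s2 : orbit (stabilizer G b) x ⊆ orbit H x := by
      subst hg
      obtain ⟨x', rfl⟩ : ∃ x', g • x' = x := ⟨g⁻¹ • x, smul_inv_smul g x⟩
      rw [orbit_stabilizer_smul]
      rintro _ ⟨y, hy, rfl⟩
      have hlx' : l • x' ≠ x' := fun h' => hlx (by rw [mul_smul, inv_smul_smul, mul_smul, h'])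
      obtain ⟨z, rfl⟩ := orbit_subset_of_normal_moves (hep x') inf_le_left (hQn Mx hinvMx) hl hlx' hy
      refine ⟨⟨g * z * g⁻¹, mem_stabilizer_iff.2 (hLa z z.2)⟩, ?_⟩
      show (g * (z : G) * g⁻¹) • g • x' = g • (z : G) • x'
      rw [mul_smul, inv_smul_smul, mul_smul]
    refine false_of_invariant_two_stabilizers hprim hH hba (S := orbit H x)
      ⟨x, mem_orbit_self x⟩ (fun ha => hxa ?_) (fun z hz => ?_) fun z hz => ?_
    · obtain ⟨z, hz⟩ := ha
      have hz' : (z : G) • x = a := hz
      rw [← inv_smul_eq_iff.2 hz'.symm]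
      exact mem_stabilizer_iff.1 (H.inv_mem z.2)
    · exact smul_orbit (⟨z, hz⟩ : H) x
    · rw [s1.antisymm s2]
      exact smul_orbit (⟨z, hz⟩ : stabilizer G b) x
  obtain ⟨u, hu⟩ : U.Nonempty := by
    by_contra hU
    rw [Set.not_nonempty_iff_eq_empty] at hU
    apply hK
    rw [Subgroup.eq_bot_iff_forall]
    intro k hk
    refine eq_of_smul_eq_smul (α := Ω) fun x => ?_
    by_contra hx
    rw [one_smul] at hx
    exact Set.notMem_empty x (hU ▸ (⟨k, hk, hx⟩ : x ∈ U))
  have hua : u ≠ a := by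
    obtain ⟨k, hk, hku⟩ := hu
    exact fun h' => hku (h' ▸ mem_stabilizer_iff.1 hk.1)
  -- hence the conjugate lies in `K`, and so is trivial
  apply hK
  rw [Subgroup.eq_bot_iff_forall]
  intro k hk
  have hl : g * k * g⁻¹ ∈ Q U := ⟨mem_stabilizer_iff.2 (hLa k hk), (mem_fixingSubgroup_iff G).2
    fun x ⟨k', hk', hx⟩ => hdisj x k' hk' hx k hk⟩
  have hlK := hfixK (Q U) inf_le_left (hQn U hUinv)
    ⟨u, hua, fun m hm => (mem_fixingSubgroup_iff G).1 hm.2 u hu⟩ hl
  have h1 : g * k * g⁻¹ = 1 := by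
    refine eq_of_smul_eq_smul (α := Ω) fun x => ?_
    by_contra hx
    rw [one_smul] at hx
    exact hx (hdisj x _ hlK hx k hk)
  calc k = g⁻¹ * (g * k * g⁻¹) * g := by group
    _ = 1 := by rw [h1]; group

end CfsgLib.Fixity
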