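import Mathlib
import Cfsg.Agent.Lib.SL2.Torus
import Cfsg.Agent.Lib.SL2.Unipotent

/-!
Element orders of `PSL(2,q)` up to divisibility, and solvable affine groups with prescribed
element orders.
-/

set_option autoImplicit false
set_option linter.style.haveILetI false

open Matrix
open scoped MatrixGroups

namespace CfsgLib.Fixity.PSLTwoSpectrum

variable {F : Type*} [Field F] [Finite F] (p : ℕ) [hp : Fact p.Prime] [CharP F p]

/-- The order of the centre of `SL(2,q)`. -/
noncomputable def zd (F : Type*) [Field F] : ℕ := Nat.card (Subgroup.center (SL(2, F)))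

theorem zd_pos : 0 < zd F := Nat.card_pos

theorem zd_two_or_one : (zd F = 1 ∧ (2 : F) = 0) ∨ (zd F = 2 ∧ (2 : F) ≠ 0) := by
  unfold zd
  rw [← SetLike.coe_sort_coe, CfsgLib.SL2.center_eq, Nat.card_coe_set_eq]
  by_cases h2 : (2 : F) = 0
  · left
    refine ⟨?_, h2⟩
    have : (-1 : SL(2, F)) = 1 := by
      apply Subtype.ext
      ext i j
      simp only [Matrix.SpecialLinearGroup.coe_neg, Matrix.SpecialLinearGroup.coe_one, Matrix.neg_apply]
      exact neg_eq_of_add_eq_zero_left (by rw [← two_mul, h2, zero_mul])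
    rw [this]; simp
  · right
    refine ⟨Set.ncard_pair fun h => h2 ?_, h2⟩
    have := congrArg (fun g : SL(2, F) => (g : Matrix (Fin 2) (Fin 2) F) 0 0) h
    simp only [Matrix.SpecialLinearGroup.coe_neg, Matrix.SpecialLinearGroup.coe_one,
      Matrix.neg_apply, Matrix.one_apply_eq] at this
    linear_combination this

theorem pow_zd_of_center {g : SL(2, F)} (hg : g ∈ Subgroup.center (SL(2, F))) : g ^ zd F = 1 :=
  orderOf_dvd_iff_pow_eq_one.1 (Subgroup.orderOf_dvd_natCard _ hg)

theorem mem_center_of_pow_zd {g : SL(2, F)} (hg : g ^ zd F = 1) :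
    g ∈ Subgroup.center (SL(2, F)) := by
  rcases zd_two_or_one (F := F) with ⟨h, -⟩ | ⟨h, h2⟩
  · rw [h, pow_one] at hg; rw [hg]; exact one_mem _
  · rw [h] at hg
    rcases eq_or_ne g 1 with rfl | hne
    · exact one_mem _
    · rw [CfsgLib.SL2.eq_neg_one_of_sq_eq_one h2 hg hne]
      exact CfsgLib.SL2.neg_one_mem_center

theorem zd_dvd {e : ℕ} (he : e = Nat.card F - 1 ∨ e = Nat.card F + 1) : zd F ∣ e := by
  rcases zd_two_or_one (F := F) with ⟨h, -⟩ | ⟨h, h2⟩ <;> rw [h]
  · exact one_dvd _
  · haveI := Fintype.ofFinite F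
    have : Fintype.card F % 2 = 1 := FiniteField.odd_card_of_char_ne_two fun hc => h2 (by
      haveI : CharP F 2 := hc ▸ ringChar.charP F
      exact CharP.cast_eq_zero F 2)
    rw [Nat.card_eq_fintype_card] at he
    omega

include hp in
theorem upS_pow (x : F) (n : ℕ) :
    CfsgLib.ClassicalLinear.upS x ^ n = CfsgLib.ClassicalLinear.upS ((n : F) * x) := by
  induction n with
  | zero => simp [CfsgLib.SL2.upS_zero]
  | succ n ih =>
    rw [pow_succ, ih, Nat.cast_succ, add_mul, one_mul, CfsgLib.ClassicalLinear.upS_add]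

include hp in
/-- Every element order of `PSL(2,q)` divides `p`, `(q-1)/d` or `(q+1)/d`. -/
theorem orderOf_dvd (x : Matrix.ProjectiveSpecialLinearGroup (Fin 2) F) :
    orderOf x ∣ p ∨ orderOf x ∣ (Nat.card F - 1) / zd F ∨ orderOf x ∣ (Nat.card F + 1) / zd F := by
  obtain ⟨g, rfl⟩ := QuotientGroup.mk_surjective x
  have key : ∀ n, g ^ n ∈ Subgroup.center (SL(2, F)) →
      orderOf (QuotientGroup.mk g : Matrix.ProjectiveSpecialLinearGroup (Fin 2) F) ∣ n := fun n hn =>
    orderOf_dvd_of_pow_eq_one (by rw [← QuotientGroup.mk_pow]; exact (QuotientGroup.eq_one_iff _).2 hn)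
  by_cases ht : CfsgLib.SL2.tr g ^ 2 = 4
  · left
    obtain ⟨k, ε, y, hε, hk⟩ := CfsgLib.SL2.trichotomy ht
    refine key p ?_
    have hcomm : Commute ε (CfsgLib.ClassicalLinear.upS y) := (Subgroup.mem_center_iff.1 hε _).symm
    have hk' : k * g ^ p * k⁻¹ = ε ^ p := by
      rw [← conj_pow, hk, hcomm.mul_pow, upS_pow p, CharP.cast_eq_zero, zero_mul,
        CfsgLib.SL2.upS_zero, mul_one]
    have hgp : g ^ p = k⁻¹ * ε ^ p * k := by rw [← hk']; simp [mul_assoc]
    rw [hgp]
    simpa using (inferInstance : (Subgroup.center (SL(2, F))).Normal).conj_mem _ (pow_mem hε p) k⁻¹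
  · right
    set C := Subgroup.centralizer ({g} : Set (SL(2, F)))
    have hgC : g ∈ C := Subgroup.mem_centralizer_singleton_iff.2 rfl
    have hge : g ^ Nat.card C = 1 := orderOf_dvd_iff_pow_eq_one.1 (Subgroup.orderOf_dvd_natCard C hgC)
    rcases CfsgLib.SL2.card_centralizer_or ht with h | h <;> rw [h] at hge
    · left
      refine key _ (mem_center_of_pow_zd ?_)
      rw [← pow_mul, Nat.div_mul_cancel (zd_dvd (Or.inl rfl)), hge]
    · right
      refine key _ (mem_center_of_pow_zd ?_)
      rw [← pow_mul, Nat.div_mul_cancel (zd_dvd (Or.inr rfl)), hge]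

theorem exists_orderOf_torus {e : ℕ} (he : e = Nat.card F - 1 ∨ e = Nat.card F + 1) (he3 : 3 ≤ e) :
    ∃ x : Matrix.ProjectiveSpecialLinearGroup (Fin 2) F, orderOf x = e / zd F := by
  obtain ⟨g, -, hg, -⟩ := CfsgLib.SL2.exists_torus_generator he he3
  refine ⟨QuotientGroup.mk g, Nat.dvd_antisymm (orderOf_dvd_of_pow_eq_one ?_) ?_⟩
  · rw [← QuotientGroup.mk_pow, QuotientGroup.eq_one_iff]
    refine mem_center_of_pow_zd ?_
    rw [← pow_mul, Nat.div_mul_cancel (zd_dvd he), ← hg, pow_orderOf_eq_one]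
  · have h := pow_orderOf_eq_one (QuotientGroup.mk g : Matrix.ProjectiveSpecialLinearGroup (Fin 2) F)
    rw [← QuotientGroup.mk_pow, QuotientGroup.eq_one_iff] at h
    have h2 := orderOf_dvd_of_pow_eq_one ((pow_mul g _ _).trans (pow_zd_of_center h))
    rw [hg] at h2
    exact (Nat.div_dvd_iff_dvd_mul (zd_dvd he) zd_pos).2 (by rwa [mul_comm])

include hp in
theorem exists_orderOf_char :
    ∃ x : Matrix.ProjectiveSpecialLinearGroup (Fin 2) F, orderOf x = p := by
  refine ⟨QuotientGroup.mk (CfsgLib.ClassicalLinear.upS (1 : F)), orderOf_eq_prime ?_ fun h => ?_⟩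
  · rw [← QuotientGroup.mk_pow, QuotientGroup.eq_one_iff, upS_pow p, CharP.cast_eq_zero, zero_mul,
      CfsgLib.SL2.upS_zero]
    exact one_mem _
  · rw [QuotientGroup.eq_one_iff, CfsgLib.SL2.upS_mem_center_iff] at h
    exact one_ne_zero h

end CfsgLib.Fixity.PSLTwoSpectrum

namespace CfsgLib.Fixity

/-- Multiplication by a unit, as an automorphism of the additive group. -/
def unitMul (K : Type*) [Field K] (C : Subgroup Kˣ) : C →* MulAut (Multiplicative K) where
  toFun c := AddEquiv.toMultiplicative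
    { toFun := fun v => ((c : Kˣ) : K) * v
      invFun := fun v => (((c⁻¹ : C) : Kˣ) : K) * v
      left_inv := fun v => by simp [← mul_assoc]
      right_inv := fun v => by simp [← mul_assoc]
      map_add' := fun v w => mul_add _ v w }
  map_one' := by
    refine MulEquiv.ext fun v => ?_
    apply Multiplicative.toAdd.injective
    simp
  map_mul' a b := by
    refine MulEquiv.ext fun v => ?_
    apply Multiplicative.toAdd.injective
    simp [mul_assoc]

/-- The affine group `K : C` for a group `C` of units. -/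
abbrev AffineOf (K : Type*) [Field K] (C : Subgroup Kˣ) : Type _ := Multiplicative K ⋊[unitMul K C] C

theorem AffineOf.finite (K : Type*) [Field K] [Finite K] (C : Subgroup Kˣ) : Finite (AffineOf K C) :=
  haveI : Finite (Multiplicative K) := inferInstanceAs (Finite K)
  Finite.of_equiv _ SemidirectProduct.equivProd.symm

theorem AffineOf.isSolvable (K : Type*) [Field K] (C : Subgroup Kˣ) :
    Group.IsSolvable (AffineOf K C) :=
  solvable_of_ker_le_range (SemidirectProduct.inl : Multiplicative K →* AffineOf K C)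
    SemidirectProduct.rightHom (by rw [SemidirectProduct.range_inl_eq_ker_rightHom])

theorem AffineOf.pow_eq {K : Type*} [Field K] {C : Subgroup Kˣ} (v : K) (c : C) (n : ℕ) :
    (SemidirectProduct.mk (Multiplicative.ofAdd v) c : AffineOf K C) ^ n =
      ⟨Multiplicative.ofAdd ((∑ i ∈ Finset.range n, ((c : Kˣ) : K) ^ i) * v), c ^ n⟩ := by
  induction n with
  | zero => simp
  | succ n ih =>
    rw [pow_succ, ih, Finset.sum_range_succ, add_mul]
    refine SemidirectProduct.ext ?_ (pow_succ c n).symm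
    rw [SemidirectProduct.mul_left]
    apply Multiplicative.toAdd.injective
    simp [unitMul]

theorem AffineOf.orderOf_dvd {K : Type*} [Field K] {C : Subgroup Kˣ} (p : ℕ) [CharP K p]
    (x : AffineOf K C) : orderOf x ∣ p ∨ orderOf x ∣ Nat.card C := by
  obtain ⟨v, c⟩ := x
  obtain ⟨v, rfl⟩ := Multiplicative.ofAdd.surjective v
  by_cases hc : c = 1
  · left
    refine orderOf_dvd_of_pow_eq_one ?_
    rw [AffineOf.pow_eq, hc]
    simp [CharP.cast_eq_zero]
  · right
    refine orderOf_dvd_of_pow_eq_one ?_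
    rw [AffineOf.pow_eq, pow_card_eq_one']
    have hne : ((c : Kˣ) : K) ≠ 1 := fun h => hc (Subtype.ext (Units.ext h))
    have hz : ((c : Kˣ) : K) ^ Nat.card C = 1 := by
      rw [← Units.val_pow_eq_pow_val, ← Subgroup.coe_pow, pow_card_eq_one']
      rfl
    have := geom_sum_mul ((c : Kˣ) : K) (Nat.card C)
    rw [hz, sub_self] at this
    rw [(mul_eq_zero.1 this).resolve_right (sub_ne_zero.2 hne), zero_mul]
    rfl

theorem AffineOf.exists_orderOf {K : Type*} [Field K] [Finite K] {C : Subgroup Kˣ} (p : ℕ)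
    [Fact p.Prime] [CharP K p] :
    (∃ x : AffineOf K C, orderOf x = p) ∧ ∃ x : AffineOf K C, orderOf x = Nat.card C := by
  refine ⟨⟨⟨Multiplicative.ofAdd 1, 1⟩, orderOf_eq_prime ?_ fun h => ?_⟩, ?_⟩
  · rw [AffineOf.pow_eq]
    simp [CharP.cast_eq_zero]
  · have := congrArg (fun x : AffineOf K C => Multiplicative.toAdd x.left) h
    simp at this
  · obtain ⟨c, hc⟩ := IsCyclic.exists_ofOrder_eq_natCard (α := C)
    exact ⟨SemidirectProduct.inr c, by rw [orderOf_injective _ SemidirectProduct.inr_injective, hc]⟩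

/-- In a finite group the element orders are determined by a cofinal set of them. -/
theorem range_orderOf_of_cofinal {G : Type*} [Group G] [Finite G] (S : Set ℕ)
    (hle : ∀ g : G, ∃ m ∈ S, orderOf g ∣ m) (hge : ∀ m ∈ S, ∃ g : G, orderOf g = m) :
    Set.range (orderOf : G → ℕ) = {n | ∃ m ∈ S, n ∣ m} := by
  apply Set.Subset.antisymm
  · rintro _ ⟨g, rfl⟩; exact hle g
  · rintro n ⟨m, hm, hn⟩
    obtain ⟨g, rfl⟩ := hge m hm
    refine ⟨g ^ (orderOf g / n), ?_⟩
    rw [orderOf_pow, Nat.gcd_eq_right (Nat.div_dvd_of_dvd hn),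
      Nat.div_div_self hn (orderOf_pos g).ne']

/-- A finite field of square order has a cyclic unit subgroup of every order dividing `q² - 1`. -/
theorem exists_unit_subgroup (K : Type*) [Field K] [Finite K] {n : ℕ} (hn : n ∣ Nat.card K - 1) :
    ∃ C : Subgroup Kˣ, Nat.card C = n := by
  obtain ⟨g, hg⟩ := IsCyclic.exists_ofOrder_eq_natCard (α := Kˣ)
  rw [Nat.card_units] at hg
  refine ⟨Subgroup.zpowers (g ^ ((Nat.card K - 1) / n)), ?_⟩
  have hpos : 0 < Nat.card K - 1 := by have := Finite.one_lt_card (α := K); omega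
  rw [Nat.card_zpowers, orderOf_pow, hg, Nat.gcd_eq_right (Nat.div_dvd_of_dvd hn),
    Nat.div_div_self hn hpos.ne']

end CfsgLib.Fixity
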